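import Cfsg.Agent.H102.RV.End
import Cfsg.Agent.S1309

/-!
# S1309 in the form of `End` (helper102)
-/

set_option autoImplicit false

namespace Cfsg.Agent.H102.RV

universe u

theorem cit : Cit.{u} := fun _ _ _ hs hna z hz J hJz hzJ hsn hQ huniq h2 h3 =>
  Cfsg.Agent.S1309.result hs hna z hz J hJz hzJ hsn hQ huniq h2 h3

end Cfsg.Agent.H102.RV
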