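import Cfsg.Agent.S0215
import Cfsg.Agent.Lib.NormalAbelian

/-!
# Quaternion fundamental subgroups and components (helper102)

`Comp.comp`: `L ≤ S` with a unique involution `z`, `O(L) = 1`, `C_S(z) ≤ N_S(L)`; `Q` a nonabelian Sylow `2`-subgroup of
`L` with an element `y`, `y² = z`; `H ≥ Q` with `F(H) = 1` (here: a family `𝒦` of subgroups with the properties of the
components).  Then `z` lies in a component of `H`.
-/

set_option autoImplicit false

namespace Cfsg.Agent.H102.RV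

open Subgroup Cfsg

universe u

variable {S : Type u} [Group S]

/-! ### Sylow `2`-subgroups of subgroups -/

/-- `P` is a Sylow `2`-subgroup of the subgroup `A`. -/
structure IsSyl (P A : Subgroup S) : Prop where
  le : P ≤ A
  pg : IsPGroup 2 P
  idx : ¬ 2 ∣ P.relIndex A

theorem isPGroup_of_le {P T : Subgroup S} (h : IsPGroup 2 P) (hT : T ≤ P) : IsPGroup 2 T := h.to_le hT

theorem exists_isSyl [Finite S] (A T : Subgroup S) (hTA : T ≤ A) (hT : IsPGroup 2 T) : ∃ P, IsSyl P A ∧ T ≤ P := by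
  have h1 : IsPGroup 2 (T.subgroupOf A) := hT.comap_of_injective A.subtype A.subtype_injective
  obtain ⟨P, hP⟩ := h1.exists_le_sylow
  refine ⟨(P : Subgroup A).map A.subtype, ⟨map_subtype_le _, P.isPGroup'.map _, ?_⟩, ?_⟩
  · have h2 : ((P : Subgroup A).map A.subtype).relIndex A = (P : Subgroup A).index := by
      rw [Subgroup.relIndex, subgroupOf, comap_map_eq_self_of_injective A.subtype_injective]
    rw [h2]
    exact P.not_dvd_index
  · intro t ht
    exact ⟨⟨t, hTA ht⟩, hP (mem_subgroupOf.mpr ht), rfl⟩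

theorem IsSyl.conj_le [Finite S] {P A : Subgroup S} (h : IsSyl P A) {T : Subgroup S} (hTA : T ≤ A) (hT : IsPGroup 2 T) :
    ∃ a ∈ A, ∀ t ∈ T, a⁻¹ * t * a ∈ P := by
  have h1 : IsPGroup 2 (T.subgroupOf A) := hT.comap_of_injective A.subtype A.subtype_injective
  obtain ⟨T', hT'⟩ := h1.exists_le_sylow
  have h2 : IsPGroup 2 (P.subgroupOf A) := h.pg.comap_of_injective A.subtype A.subtype_injective
  have h3 : ¬ 2 ∣ (P.subgroupOf A).index := h.idx
  let P' : Sylow 2 A := h2.toSylow h3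
  obtain ⟨a, ha⟩ := MulAction.exists_smul_eq A P' T'
  refine ⟨a, a.2, fun t ht => ?_⟩
  have h4 : (⟨t, hTA ht⟩ : A) ∈ (T' : Subgroup A) := hT' (mem_subgroupOf.mpr ht)
  rw [← ha, Sylow.coe_subgroup_smul, ← SetLike.mem_coe, coe_pointwise_smul,
    Set.mem_smul_set_iff_inv_smul_mem] at h4
  have h5 : ((MulAut.conj a)⁻¹ • (⟨t, hTA ht⟩ : A) : A) ∈ P.subgroupOf A := h4
  rw [mem_subgroupOf] at h5
  have h6 : (((MulAut.conj a)⁻¹ • (⟨t, hTA ht⟩ : A) : A) : S) = (a : S)⁻¹ * t * a := by simp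
  rwa [h6] at h5

/-- a `2`-subgroup of `A` has order at most that of a Sylow `2`-subgroup -/
theorem IsSyl.eq_of_le [Finite S] {P A : Subgroup S} (h : IsSyl P A) {T : Subgroup S} (hTA : T ≤ A) (hT : IsPGroup 2 T)
    (hPT : P ≤ T) : T = P := by
  obtain ⟨a, -, ha⟩ := h.conj_le hTA hT
  have h1 : Nat.card T ≤ Nat.card P := by
    let f : T → P := fun t => ⟨a⁻¹ * t * a, ha t t.2⟩
    have hf : Function.Injective f := by
      intro s t hst
      have := congrArg Subtype.val hst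
      simp only [f] at this
      apply Subtype.ext
      have h3 : a⁻¹ * (s : S) = a⁻¹ * t := mul_right_cancel this
      exact mul_left_cancel h3
    exact Nat.card_le_card_of_injective f hf
  exact (Subgroup.eq_of_le_of_card_ge hPT h1).symm

theorem IsSyl.inter [Finite S] {P A : Subgroup S} (h : IsSyl P A) {N : Subgroup S} (hNA : N ≤ A)
    (hn : ∀ a ∈ A, ∀ n ∈ N, a * n * a⁻¹ ∈ N) : IsSyl (P ⊓ N) N := by
  obtain ⟨T, hT, hle⟩ := exists_isSyl N (P ⊓ N) inf_le_right (h.pg.to_le inf_le_left)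
  obtain ⟨a, haA, ha⟩ := h.conj_le (hT.le.trans hNA) hT.pg
  have h1 : Nat.card T ≤ Nat.card (P ⊓ N : Subgroup S) := by
    let f : T → (P ⊓ N : Subgroup S) := fun t => ⟨a⁻¹ * t * a, ha t t.2, by
      have := hn a⁻¹ (A.inv_mem haA) t (hT.le t.2)
      rwa [inv_inv] at this⟩
    have hf : Function.Injective f := by
      intro s t hst
      have := congrArg Subtype.val hst
      simp only [f] at this
      apply Subtype.ext
      have h3 : a⁻¹ * (s : S) = a⁻¹ * t := mul_right_cancel this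
      exact mul_left_cancel h3
    exact Nat.card_le_card_of_injective f hf
  have h2 : P ⊓ N = T := Subgroup.eq_of_le_of_card_ge hle h1
  rw [h2]
  exact hT

theorem IsSyl.conj [Finite S] {P A : Subgroup S} (h : IsSyl P A) (g : S) :
    IsSyl (P.map (MulAut.conj g).toMonoidHom) (A.map (MulAut.conj g).toMonoidHom) := by
  refine ⟨Subgroup.map_mono h.le, h.pg.map _, ?_⟩
  rw [Subgroup.relIndex_map_map_of_injective]
  · exact h.idx
  · exact (MulAut.conj g).injective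

theorem le_normalizer_of {A B : Subgroup S} (h : ∀ b ∈ B, ∀ a ∈ A, b * a * b⁻¹ ∈ A) :
    B ≤ normalizer (A : Set S) := by
  intro b hb
  rw [mem_normalizer_iff]
  intro a
  refine ⟨fun ha => h b hb a ha, fun ha => ?_⟩
  have h1 := h b⁻¹ (B.inv_mem hb) _ ha
  have h2 : b⁻¹ * (b * a * b⁻¹) * b⁻¹⁻¹ = a := by group
  rwa [h2] at h1

theorem isPGroup_sup {A B : Subgroup S} (hA : IsPGroup 2 A) (hB : IsPGroup 2 B)
    (h : ∀ b ∈ B, ∀ a ∈ A, b * a * b⁻¹ ∈ A) : IsPGroup 2 (A ⊔ B : Subgroup S) :=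
  IsPGroup.to_sup_of_normal_left' hA hB (le_normalizer_of h)

/-- normalisers grow in `2`-groups -/
theorem exists_normalizing [Finite S] {Y Z : Subgroup S} (h : Y < Z) (hZ : IsPGroup 2 Z) :
    ∃ g ∈ Z, g ∉ Y ∧ ∀ x ∈ Y, g * x * g⁻¹ ∈ Y := by
  have h1 : Group.IsNilpotent Z := hZ.isNilpotent
  have h2 : NormalizerCondition Z := Group.normalizerCondition_of_isNilpotent
  have h3 : Y.subgroupOf Z < ⊤ := by
    rw [lt_top_iff_ne_top]
    intro h4
    exact h.not_ge (subgroupOf_eq_top.mp h4)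
  obtain ⟨-, g, hg, hgY⟩ := SetLike.lt_iff_le_and_exists.mp (h2 _ h3)
  refine ⟨g, g.2, fun hY => hgY (mem_subgroupOf.mpr hY), fun x hx => ?_⟩
  have h5 := (mem_normalizer_iff.mp hg (⟨x, h.le hx⟩ : Z)).mp (mem_subgroupOf.mpr hx)
  exact mem_subgroupOf.mp h5

/-- a `2`-element in a subgroup of odd order is trivial -/
theorem eq_one_of_odd [Finite S] {D P : Subgroup S} (hD : Odd (Nat.card D)) (hP : IsPGroup 2 P) {x : S} (hx : x ∈ D)
    (hxP : x ∈ P) : x = 1 := by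
  obtain ⟨k, hk⟩ := hP ⟨x, hxP⟩
  have h1 : x ^ 2 ^ k = 1 := by
    have := congrArg Subtype.val hk
    simpa using this
  have h2 : x ^ Nat.card D = 1 := by
    have h0 : ((⟨x, hx⟩ : D) ^ Nat.card D : D) = 1 := pow_card_eq_one'
    exact congrArg Subtype.val h0
  have h3 : orderOf x ∣ Nat.gcd (2 ^ k) (Nat.card D) := Nat.dvd_gcd (orderOf_dvd_of_pow_eq_one h1) (orderOf_dvd_of_pow_eq_one h2)
  have h4 : Nat.Coprime (2 ^ k) (Nat.card D) := Nat.Coprime.pow_left _ ((Nat.coprime_two_left).mpr hD)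
  rw [h4, Nat.dvd_one, orderOf_eq_one_iff] at h3
  exact h3

theorem odd_of_no_involution [Finite S] {D : Subgroup S} (h : ∀ x ∈ D, orderOf x ≠ 2) : Odd (Nat.card D) := by
  rw [← Nat.not_even_iff_odd, even_iff_two_dvd]
  intro h2
  obtain ⟨x, hx⟩ := exists_prime_orderOf_dvd_card' (G := D) 2 h2
  exact h x x.2 (by rw [Subgroup.orderOf_coe, hx])

/-- Glauberman's Z*-theorem for a subgroup -/
theorem zstar [Finite S] {P A : Subgroup S} (hP : IsSyl P A) {u : S} (huP : u ∈ P) (hu : orderOf u = 2)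
    (hiso : ∀ g ∈ A, g * u * g⁻¹ ∈ P → g * u * g⁻¹ = u) :
    ∃ N : Subgroup S, N ≤ A ∧ (∀ a ∈ A, ∀ n ∈ N, a * n * a⁻¹ ∈ N) ∧ Odd (Nat.card N) ∧
      ∀ g ∈ A, u * g * u⁻¹ * g⁻¹ ∈ N := by
  have hP2 : IsPGroup 2 (P.subgroupOf A) := hP.pg.comap_of_injective A.subtype A.subtype_injective
  let PA : Sylow 2 A := hP2.toSylow hP.idx
  obtain ⟨N, hN, hNodd, hNc⟩ := Cfsg.Agent.S0215.result (G := A) PA ⟨u, hP.le huP⟩
    (by rw [← Subgroup.orderOf_coe]; exact hu) (show (⟨u, hP.le huP⟩ : A) ∈ P.subgroupOf A from mem_subgroupOf.mpr huP)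
    (fun g hg => by
      apply Subtype.ext
      exact hiso g g.2 (mem_subgroupOf.mp (show (g * ⟨u, hP.le huP⟩ * g⁻¹ : A) ∈ P.subgroupOf A from hg)))
  refine ⟨N.map A.subtype, map_subtype_le _, ?_, ?_, ?_⟩
  · rintro a ha _ ⟨n, hn, rfl⟩
    exact ⟨_, hN.conj_mem n hn ⟨a, ha⟩, rfl⟩
  · rwa [Nat.card_congr (N.equivMapOfInjective _ A.subtype_injective).toEquiv.symm]
  · intro g hg
    exact ⟨_, hNc ⟨g, hg⟩, rfl⟩

/-! ### fundamental subgroups -/

/-- `z` is the only involution of `L`, `O(L) = 1`, `C_S(z)` normalises `L`. -/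
structure Fund (L : Subgroup S) (z : S) : Prop where
  ord : orderOf z = 2
  mem : z ∈ L
  uniq : ∀ t ∈ L, orderOf t = 2 → t = z
  core : ∀ N : Subgroup S, N ≤ L → (∀ l ∈ L, ∀ n ∈ N, l * n * l⁻¹ ∈ N) → Odd (Nat.card N) → N = ⊥
  cent : ∀ g : S, g * z = z * g → ∀ l ∈ L, g * l * g⁻¹ ∈ L

theorem orderOf_conj (g x : S) : orderOf (g * x * g⁻¹) = orderOf x := by
  have h := (MulAut.conj g).orderOf_eq x
  rwa [MulAut.conj_apply] at h

theorem Fund.sq {L : Subgroup S} {z : S} (h : Fund L z) : z * z = 1 := by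
  have h1 := pow_orderOf_eq_one z
  rwa [h.ord, pow_two] at h1

theorem Fund.ne_one {L : Subgroup S} {z : S} (h : Fund L z) : z ≠ 1 := by
  intro h1
  have h2 := h.ord
  rw [h1, orderOf_one] at h2
  omega

/-- `z` is central in `L` -/
theorem Fund.comm {L : Subgroup S} {z : S} (h : Fund L z) {l : S} (hl : l ∈ L) : l * z = z * l := by
  have h1 : l * z * l⁻¹ = z := h.uniq _ (L.mul_mem (L.mul_mem hl h.mem) (L.inv_mem hl)) (by rw [orderOf_conj, h.ord])
  rw [mul_inv_eq_iff_eq_mul] at h1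
  exact h1

theorem orderOf_eq_two_of_sq {x : S} (h : x * x = 1) (h1 : x ≠ 1) : orderOf x = 2 := by
  apply orderOf_eq_prime
  · rw [pow_two, h]
  · exact h1

theorem sq_of_orderOf {x : S} (h : orderOf x = 2) : x * x = 1 := by
  have h1 := pow_orderOf_eq_one x
  rwa [h, pow_two] at h1

theorem mem_map_conj {L : Subgroup S} {g x : S} : x ∈ L.map (MulAut.conj g).toMonoidHom ↔ g⁻¹ * x * g ∈ L := by
  constructor
  · rintro ⟨l, hl, rfl⟩
    have : g⁻¹ * (MulAut.conj g).toMonoidHom l * g = l := by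
      show g⁻¹ * (g * l * g⁻¹) * g = l
      group
    rw [this]
    exact hl
  · intro h
    refine ⟨_, h, ?_⟩
    show g * (g⁻¹ * x * g) * g⁻¹ = x
    group

theorem conj_mem_map {L : Subgroup S} (g : S) {x : S} (hx : x ∈ L) : g * x * g⁻¹ ∈ L.map (MulAut.conj g).toMonoidHom :=
  ⟨x, hx, rfl⟩

theorem Fund.conj {L : Subgroup S} {z : S} (h : Fund L z) (g : S) :
    Fund (L.map (MulAut.conj g).toMonoidHom) (g * z * g⁻¹) := by
  refine ⟨by rw [orderOf_conj, h.ord], conj_mem_map g h.mem, ?_, ?_, ?_⟩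
  · intro t ht hto
    have h1 : g⁻¹ * t * g = z := h.uniq _ (mem_map_conj.mp ht) (by
      have := orderOf_conj g⁻¹ t
      rw [inv_inv] at this
      rw [this, hto])
    rw [← h1]
    group
  · intro N hN hn hodd
    have h1 : N.map (MulAut.conj g⁻¹).toMonoidHom = ⊥ := by
      apply h.core
      · intro x hx
        rw [mem_map_conj, inv_inv] at hx
        have h2 := mem_map_conj.mp (hN hx)
        have h3 : g⁻¹ * (g * x * g⁻¹) * g = x := by group
        rwa [h3] at h2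
      · intro l hl n hnn
        rw [mem_map_conj, inv_inv] at hnn ⊢
        have h2 := hn (g * l * g⁻¹) (conj_mem_map g hl) _ hnn
        have h3 : g * l * g⁻¹ * (g * n * g⁻¹) * (g * l * g⁻¹)⁻¹ = g * (l * n * l⁻¹) * g⁻¹ := by group
        rwa [h3] at h2
      · rwa [Nat.card_congr (N.equivMapOfInjective _ (MulAut.conj g⁻¹).injective).toEquiv.symm]
    exact (Subgroup.map_eq_bot_iff_of_injective _ (MulAut.conj g⁻¹).injective).mp h1
  · intro x hx l hl
    rw [mem_map_conj] at hl ⊢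
    have h1 : (g⁻¹ * x * g) * z = z * (g⁻¹ * x * g) := by
      have h2 : (g⁻¹ * x * g) * z = g⁻¹ * (x * (g * z * g⁻¹)) * g := by group
      rw [h2, hx]
      group
    have h3 := h.cent _ h1 _ hl
    have h4 : g⁻¹ * (x * l * x⁻¹) * g = g⁻¹ * x * g * (g⁻¹ * l * g) * (g⁻¹ * x * g)⁻¹ := by group
    rwa [h4]

/-- an involution `≠ z` centralising a Sylow `2`-subgroup of `L` centralises `L` (Glauberman) -/
theorem Fund.fact [Finite S] {L : Subgroup S} {z : S} (h : Fund L z) {Q : Subgroup S} (hQ : IsSyl Q L) {t : S}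
    (ht : orderOf t = 2) (htz : t ≠ z) (htQ : ∀ u ∈ Q, t * u = u * t) (hzQ : z ∈ Q) : ∀ l ∈ L, t * l = l * t := by
  classical
  have htt : t * t = 1 := sq_of_orderOf ht
  have htinv : t⁻¹ = t := inv_eq_of_mul_eq_one_left htt
  have htL : ∀ l ∈ L, t * l * t⁻¹ ∈ L := h.cent t (htQ z hzQ)
  have ht' : t ∉ L := fun h1 => htz (h.uniq t h1 ht)
  have ht1 : t ≠ 1 := by
    intro h1
    rw [h1, orderOf_one] at ht
    omega
  -- the group `M = L ∪ L t`
  let M : Subgroup S :=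
    { carrier := {g | g ∈ L ∨ g * t ∈ L}
      mul_mem' := by
        rintro a b (ha | ha) (hb | hb)
        · exact Or.inl (L.mul_mem ha hb)
        · right
          rw [mul_assoc]
          exact L.mul_mem ha hb
        · right
          have h1 := htL b hb
          have h2 : a * b * t = (a * t) * (t * b * t⁻¹) * (1 : S) := by
            rw [htinv, mul_one]
            calc a * b * t = a * (t * t) * b * t := by rw [htt, mul_one]
              _ = a * t * (t * b * t) := by group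
          rw [h2, mul_one]
          exact L.mul_mem ha h1
        · left
          have h1 := htL _ hb
          have h2 : a * b = (a * t) * (t * (b * t) * t⁻¹) := by
            rw [htinv]
            calc a * b = a * (t * t) * b * (t * t) := by rw [htt, mul_one, mul_one]
              _ = a * t * (t * (b * t) * t) := by group
          rw [h2]
          exact L.mul_mem ha h1
      one_mem' := Or.inl L.one_mem
      inv_mem' := by
        rintro a (ha | ha)
        · exact Or.inl (L.inv_mem ha)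
        · right
          have h1 := htL _ (L.inv_mem ha)
          have h2 : a⁻¹ * t = t * (a * t)⁻¹ * t⁻¹ * (1 : S) := by
            rw [mul_inv_rev, htinv, mul_one]
            calc a⁻¹ * t = (t * t) * a⁻¹ * t := by rw [htt, one_mul]
              _ = t * (t * a⁻¹) * t := by group
          rw [h2, mul_one]
          exact h1 }
  have hM : ∀ g, g ∈ M ↔ (g ∈ L ∨ g * t ∈ L) := fun g => Iff.rfl
  have htM : t ∈ M := (hM t).mpr (Or.inr (by rw [htt]; exact L.one_mem))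
  have hLM : L ≤ M := fun l hl => (hM l).mpr (Or.inl hl)
  have hLn : ∀ g ∈ M, ∀ l ∈ L, g * l * g⁻¹ ∈ L := by
    intro g hg l hl
    rcases (hM g).mp hg with h1 | h1
    · exact L.mul_mem (L.mul_mem h1 hl) (L.inv_mem h1)
    · have h2 := L.mul_mem (L.mul_mem h1 (htL l hl)) (L.inv_mem h1)
      have h3 : g * t * (t * l * t⁻¹) * (g * t)⁻¹ = g * l * g⁻¹ := by
        rw [mul_inv_rev, htinv]
        calc g * t * (t * l * t) * (t * g⁻¹) = g * (t * t) * l * (t * t) * g⁻¹ := by group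
          _ = g * l * g⁻¹ := by rw [htt, mul_one, mul_one]
      rwa [h3] at h2
  -- a Sylow subgroup of `M` containing `Q` and `t`
  have hQt2 : IsPGroup 2 (Q ⊔ zpowers t : Subgroup S) := by
    have h1 : IsPGroup 2 (zpowers t) := by
      rw [IsPGroup.iff_card]
      exact ⟨1, by rw [Nat.card_zpowers, ht, pow_one]⟩
    refine isPGroup_sup hQ.pg h1 ?_
    intro b hb a ha
    obtain ⟨k, rfl⟩ := mem_zpowers_iff.mp hb
    have h2 : Commute t a := htQ a ha
    have h3 : t ^ k * a * (t ^ k)⁻¹ = a := by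
      rw [(h2.zpow_left k).eq]; group
    rwa [h3]
  obtain ⟨P, hP, hQP⟩ := exists_isSyl M (Q ⊔ zpowers t)
    (sup_le (hQ.le.trans hLM) ((zpowers_le).mpr htM)) hQt2
  have hQP' : Q ≤ P := le_sup_left.trans hQP
  have htP : t ∈ P := hQP (mem_sup_right (mem_zpowers t))
  have hPL : P ⊓ L = Q := by
    refine hQ.eq_of_le inf_le_right (hP.pg.to_le inf_le_left) (le_inf hQP' hQ.le)
  have hiso : ∀ g ∈ M, g * t * g⁻¹ ∈ P → g * t * g⁻¹ = t := by
    intro g hg hw
    have hwM : g * t * g⁻¹ ∈ M := M.mul_mem (M.mul_mem hg htM) (M.inv_mem hg)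
    rcases (hM _).mp hwM with h1 | h1
    · exfalso
      have h2 := hLn g⁻¹ (M.inv_mem hg) _ h1
      have h3 : g⁻¹ * (g * t * g⁻¹) * g⁻¹⁻¹ = t := by group
      rw [h3] at h2
      exact ht' h2
    · have h2 : g * t * g⁻¹ * t ∈ Q := by
        rw [← hPL]
        exact ⟨P.mul_mem hw htP, h1⟩
      have h3 := htQ _ h2
      have h4 : t * (g * t * g⁻¹) = g * t * g⁻¹ * t := by
        have h5 : t * (g * t * g⁻¹) * t = g * t * g⁻¹ * t * t := by rw [← h3]; group
        exact mul_right_cancel h5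
      have hww : (g * t * g⁻¹) * (g * t * g⁻¹) = 1 := by
        calc (g * t * g⁻¹) * (g * t * g⁻¹) = g * (t * t) * g⁻¹ := by group
          _ = 1 := by rw [htt]; group
      have h6 : (g * t * g⁻¹ * t) * (g * t * g⁻¹ * t) = 1 := by
        calc (g * t * g⁻¹ * t) * (g * t * g⁻¹ * t) = g * t * g⁻¹ * (t * (g * t * g⁻¹)) * t := by group
          _ = (g * t * g⁻¹) * (g * t * g⁻¹) * (t * t) := by rw [h4]; group
          _ = 1 := by rw [hww, htt, one_mul]
      by_cases h7 : g * t * g⁻¹ * t = 1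
      · rw [mul_eq_one_iff_eq_inv, htinv] at h7
        exact h7
      · exfalso
        have h8 : g * t * g⁻¹ * t = z := h.uniq _ h1 (orderOf_eq_two_of_sq h6 h7)
        have h9 : ∃ l ∈ L, l * t * l⁻¹ = z * t := by
          have h10 : g * t * g⁻¹ = z * t := by
            rw [← h8, mul_assoc (g * t * g⁻¹), htt, mul_one]
          rcases (hM g).mp hg with h11 | h11
          · exact ⟨g, h11, h10⟩
          · refine ⟨g * t, h11, ?_⟩
            rw [← h10, mul_inv_rev, htinv]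
            calc g * t * t * (t * g⁻¹) = g * (t * t) * t * g⁻¹ := by group
              _ = g * t * g⁻¹ := by rw [htt, mul_one]
        obtain ⟨l, hl, hlt⟩ := h9
        let C : Subgroup S :=
          { carrier := {x | x ∈ L ∧ x * t = t * x}
            mul_mem' := by
              rintro a b ⟨ha, ha'⟩ ⟨hb, hb'⟩
              exact ⟨L.mul_mem ha hb, by rw [mul_assoc, hb', ← mul_assoc, ha', mul_assoc]⟩
            one_mem' := ⟨L.one_mem, by rw [one_mul, mul_one]⟩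
            inv_mem' := by
              rintro a ⟨ha, ha'⟩
              refine ⟨L.inv_mem ha, ?_⟩
              have : a⁻¹ * (a * t) * a⁻¹ = a⁻¹ * (t * a) * a⁻¹ := by rw [ha']
              have h1 : a⁻¹ * (a * t) * a⁻¹ = t * a⁻¹ := by group
              have h2 : a⁻¹ * (t * a) * a⁻¹ = a⁻¹ * t := by group
              rw [h1, h2] at this
              exact this.symm }
        let C' : Subgroup S :=
          { carrier := {x | x ∈ L ∧ (x * t = t * x ∨ x * t = z * t * x)}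
            mul_mem' := by
              rintro a b ⟨ha, ha'⟩ ⟨hb, hb'⟩
              refine ⟨L.mul_mem ha hb, ?_⟩
              have haz := h.comm ha
              rcases ha' with ha' | ha' <;> rcases hb' with hb' | hb'
              · exact Or.inl (by rw [mul_assoc, hb', ← mul_assoc, ha', mul_assoc])
              · exact Or.inr (by
                  calc a * b * t = a * (b * t) := by group
                    _ = a * z * t * b := by rw [hb']; group
                    _ = z * (a * t) * b := by rw [haz]; group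
                    _ = z * t * (a * b) := by rw [ha']; group)
              · exact Or.inr (by
                  calc a * b * t = a * (b * t) := by group
                    _ = (a * t) * b := by rw [hb']; group
                    _ = z * t * (a * b) := by rw [ha']; group)
              · exact Or.inl (by
                  calc a * b * t = a * (b * t) := by group
                    _ = a * z * t * b := by rw [hb']; group
                    _ = z * (a * t) * b := by rw [haz]; group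
                    _ = (z * z) * t * (a * b) := by rw [ha']; group
                    _ = t * (a * b) := by rw [h.sq, one_mul])
            one_mem' := ⟨L.one_mem, Or.inl (by rw [one_mul, mul_one])⟩
            inv_mem' := by
              rintro a ⟨ha, ha'⟩
              refine ⟨L.inv_mem ha, ?_⟩
              have haz := h.comm (L.inv_mem ha)
              rcases ha' with ha' | ha'
              · left
                have : a⁻¹ * (a * t) * a⁻¹ = a⁻¹ * (t * a) * a⁻¹ := by rw [ha']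
                have h1 : a⁻¹ * (a * t) * a⁻¹ = t * a⁻¹ := by group
                have h2 : a⁻¹ * (t * a) * a⁻¹ = a⁻¹ * t := by group
                rw [h1, h2] at this
                exact this.symm
              · right
                have : a⁻¹ * (a * t) * a⁻¹ = a⁻¹ * (z * t * a) * a⁻¹ := by rw [ha']
                have h1 : a⁻¹ * (a * t) * a⁻¹ = t * a⁻¹ := by group
                have h2 : a⁻¹ * (z * t * a) * a⁻¹ = a⁻¹ * z * t := by group
                rw [h1, h2, haz] at this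
                have h3 : z * (t * a⁻¹) = z * (z * a⁻¹ * t) := by rw [this]
                rw [← mul_assoc, ← mul_assoc, ← mul_assoc, h.sq, one_mul] at h3
                exact h3.symm }
        have hCC' : C ≤ C' := fun x hx => ⟨hx.1, Or.inl hx.2⟩
        have hlC' : l ∈ C' := ⟨hl, Or.inr (by rw [← hlt]; group)⟩
        have hidx : C.relIndex C' = 2 := by
          rw [Subgroup.relIndex_eq_two_iff]
          refine ⟨l, hlC', fun b hb => ?_⟩
          have hlt' : l * t = z * t * l := by rw [← hlt]; group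
          have hlz := h.comm hl
          have hbz := h.comm hb.1
          rcases hb.2 with h11 | h11
          · right
            refine ⟨⟨hb.1, h11⟩, fun h12 => ?_⟩
            have h13 : b * l * t = t * (b * l) := h12.2
            have h14 : b * l * t = z * (t * (b * l)) := by
              calc b * l * t = b * (l * t) := by group
                _ = b * z * t * l := by rw [hlt']; group
                _ = z * (b * t) * l := by rw [hbz]; group
                _ = z * (t * (b * l)) := by rw [h11]; group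
            rw [h13] at h14
            have h15 : z = 1 := by
              have := mul_right_cancel (b := t * (b * l)) ((one_mul _).trans h14)
              exact this.symm
            exact h.ne_one h15
          · left
            refine ⟨⟨L.mul_mem hb.1 hl, ?_⟩, fun h12 => ?_⟩
            · calc b * l * t = b * (l * t) := by group
                _ = b * z * t * l := by rw [hlt']; group
                _ = z * (b * t) * l := by rw [hbz]; group
                _ = (z * z) * (t * (b * l)) := by rw [h11]; group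
                _ = t * (b * l) := by rw [h.sq, one_mul]
            · have h13 : b * t = t * b := h12.2
              rw [h11] at h13
              have h14 : z * (t * b) = t * b := by rw [← mul_assoc]; exact h13
              have h15 : z = 1 := mul_eq_right.mp h14
              exact h.ne_one h15
        have hQC : Q ≤ C := fun u hu => ⟨hQ.le hu, (htQ u hu).symm⟩
        have hC'L : C' ≤ L := fun x hx => hx.1
        apply hQ.idx
        have h16 : Q.relIndex C * C.relIndex C' = Q.relIndex C' := Subgroup.relIndex_mul_relIndex _ _ _ hQC hCC'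
        have h17 : Q.relIndex C' * C'.relIndex L = Q.relIndex L :=
          Subgroup.relIndex_mul_relIndex _ _ _ (hQC.trans hCC') hC'L
        rw [← h17, ← h16, hidx]
        exact Dvd.dvd.mul_right (Dvd.intro_left _ rfl) _
  -- the Z*-theorem in `M`
  obtain ⟨N, hNM, hN, hNodd, hNc⟩ := zstar hP htP ht hiso
  have hbot : N ⊓ L = ⊥ := by
    apply h.core _ inf_le_right
    · intro l hl n hn
      exact ⟨hN l (hLM hl) n hn.1, L.mul_mem (L.mul_mem hl hn.2) (L.inv_mem hl)⟩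
    · exact Odd.of_dvd_nat hNodd (Subgroup.card_dvd_of_le inf_le_left)
  intro l hl
  have h2 : t * l * t⁻¹ * l⁻¹ ∈ N ⊓ L := ⟨hNc l (hLM hl), L.mul_mem (htL l hl) (L.inv_mem hl)⟩
  rw [hbot, mem_bot] at h2
  rw [mul_inv_eq_one, mul_inv_eq_iff_eq_mul] at h2
  exact h2

/-- two fundamental subgroups with different involutions, each centralised by the involution of the other, commute -/
theorem Fund.commute [Finite S] {L L' : Subgroup S} {z z' : S} (h : Fund L z) (h' : Fund L' z') (hne : z ≠ z')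
    (hL : ∀ l ∈ L, z' * l = l * z') (hL' : ∀ l ∈ L', z * l = l * z) : ∀ l ∈ L, ∀ m ∈ L', l * m = m * l := by
  have h1 : L ⊓ L' = ⊥ := by
    apply h.core _ inf_le_left
    · intro l hl n hn
      exact ⟨L.mul_mem (L.mul_mem hl hn.1) (L.inv_mem hl), h'.cent l (hL l hl).symm n hn.2⟩
    · apply odd_of_no_involution
      intro x hx h2
      exact hne ((h.uniq x hx.1 h2).symm.trans (h'.uniq x hx.2 h2))
  intro l hl m hm
  have h2 : l * m * l⁻¹ * m⁻¹ ∈ L ⊓ L' := by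
    refine ⟨?_, L'.mul_mem (h'.cent l (hL l hl).symm m hm) (L'.inv_mem hm)⟩
    have h3 := h.cent m (hL' m hm).symm _ (L.inv_mem hl)
    have h4 : l * m * l⁻¹ * m⁻¹ = l * (m * l⁻¹ * m⁻¹) := by group
    rw [h4]
    exact L.mul_mem hl h3
  rw [h1, mem_bot, mul_inv_eq_one, mul_inv_eq_iff_eq_mul] at h2
  exact h2

/-! ### families of components -/

/-- The properties used of the set of components of a finite group `H` with `O_2(H) = 1` (the centres of the components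
have odd order). -/
structure Comps (H : Subgroup S) (𝒦 : Set (Subgroup S)) : Prop where
  le : ∀ K ∈ 𝒦, K ≤ H
  conj : ∀ K ∈ 𝒦, ∀ h ∈ H, K.map (MulAut.conj h).toMonoidHom ∈ 𝒦
  oddN : ∀ K ∈ 𝒦, ∀ N ≤ K, (∀ k ∈ K, ∀ n ∈ N, k * n * k⁻¹ ∈ N) → Odd (Nat.card N) → ∀ n ∈ N, ∀ k ∈ K, n * k = k * n
  oddZ : ∀ K ∈ 𝒦, ∀ x ∈ K, (∀ k ∈ K, x * k = k * x) → Odd (orderOf x)
  perf : ∀ K ∈ 𝒦, ∀ x : S, (∀ k ∈ K, x * k * x⁻¹ ∈ K) →
    (∀ k ∈ K, ∀ l ∈ K, x * k * x⁻¹ * k⁻¹ * l = l * (x * k * x⁻¹ * k⁻¹)) → ∀ k ∈ K, x * k = k * x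
  even : ∀ K ∈ 𝒦, 2 ∣ Nat.card K
  comm : ∀ K ∈ 𝒦, ∀ K' ∈ 𝒦, K ≠ K' → ∀ a ∈ K, ∀ b ∈ K', a * b = b * a

section comps

variable {H : Subgroup S} {𝒦 : Set (Subgroup S)}

theorem Comps.odd_of_mem (hC : Comps H 𝒦) {K K' : Subgroup S} (hK : K ∈ 𝒦) (hK' : K' ∈ 𝒦) (hne : K ≠ K') {x : S}
    (hx : x ∈ K) (hx' : x ∈ K') : Odd (orderOf x) :=
  hC.oddZ K hK x hx fun k hk => (hC.comm K hK K' hK' hne k hk x hx').symm

theorem eq_one_of_odd_of_sq {x : S} (h : Odd (orderOf x)) (h2 : x * x = 1) : x = 1 := by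
  by_contra h1
  rw [orderOf_eq_two_of_sq h2 h1] at h
  exact absurd h (by decide)

/-- an involution of a component does not centralise it -/
theorem Comps.not_cent (hC : Comps H 𝒦) {K : Subgroup S} (hK : K ∈ 𝒦) {x : S} (hx : x ∈ K) (h2 : orderOf x = 2)
    (hc : ∀ k ∈ K, x * k = k * x) : False := by
  have h1 := hC.oddZ K hK x hx hc
  rw [h2] at h1
  exact absurd h1 (by decide)

theorem exists_involution [Finite S] {K : Subgroup S} (h : 2 ∣ Nat.card K) : ∃ d ∈ K, orderOf d = 2 := by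
  obtain ⟨x, hx⟩ := exists_prime_orderOf_dvd_card' (G := K) 2 h
  exact ⟨x, x.2, by rw [Subgroup.orderOf_coe, hx]⟩

theorem map_conj_mul (K : Subgroup S) (a b : S) :
    (K.map (MulAut.conj b).toMonoidHom).map (MulAut.conj a).toMonoidHom = K.map (MulAut.conj (a * b)).toMonoidHom := by
  ext x
  rw [mem_map_conj, mem_map_conj, mem_map_conj]
  have : b⁻¹ * (a⁻¹ * x * a) * b = (a * b)⁻¹ * x * (a * b) := by group
  rw [this]

theorem map_conj_one (K : Subgroup S) : K.map (MulAut.conj (1 : S)).toMonoidHom = K := by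
  ext x
  rw [mem_map_conj]
  simp

theorem map_conj_eq [Finite S] {K : Subgroup S} {w : S} (h : ∀ x ∈ K, w * x * w⁻¹ ∈ K) :
    K.map (MulAut.conj w).toMonoidHom = K := by
  apply Subgroup.eq_of_le_of_card_ge
  · rintro _ ⟨x, hx, rfl⟩
    exact h x hx
  · exact (Nat.card_congr (K.equivMapOfInjective _ (MulAut.conj w).injective).toEquiv).le

theorem conj_mem_of_map_eq {K : Subgroup S} {w : S} (h : K.map (MulAut.conj w).toMonoidHom = K) {x : S} (hx : x ∈ K) :
    w * x * w⁻¹ ∈ K := by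
  have := conj_mem_map w hx
  rwa [h] at this

theorem map_conj_inj {K K' : Subgroup S} {a : S}
    (h : K.map (MulAut.conj a).toMonoidHom = K'.map (MulAut.conj a).toMonoidHom) : K = K' := by
  have h1 := congrArg (fun X : Subgroup S => X.map (MulAut.conj a⁻¹).toMonoidHom) h
  simp only [map_conj_mul, inv_mul_cancel, map_conj_one] at h1
  exact h1

/-- (a) `z` fixes every component -/
theorem comp_a [Finite S] {L : Subgroup S} {z : S} (h : Fund L z) (hC : Comps H 𝒦) {y : S} (hyL : y ∈ L) (hyH : y ∈ H)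
    (hy : y * y = z) {K : Subgroup S} (hK : K ∈ 𝒦) : K.map (MulAut.conj z).toMonoidHom = K := by
  by_contra hne
  have hzH : z ∈ H := hy ▸ H.mul_mem hyH hyH
  set K2 := K.map (MulAut.conj z).toMonoidHom with hK2
  have hK2m : K2 ∈ 𝒦 := hC.conj K hK z hzH
  set K1 := K.map (MulAut.conj y).toMonoidHom with hK1
  have hK1m : K1 ∈ 𝒦 := hC.conj K hK y hyH
  set K3 := K2.map (MulAut.conj y).toMonoidHom with hK3
  have hK3m : K3 ∈ 𝒦 := hC.conj K2 hK2m y hyH
  have e1 : K1.map (MulAut.conj y).toMonoidHom = K2 := by rw [hK1, map_conj_mul, hy]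
  have e2 : K2.map (MulAut.conj z).toMonoidHom = K := by rw [hK2, map_conj_mul, h.sq, map_conj_one]
  have e3 : K3 = K1.map (MulAut.conj z).toMonoidHom := by
    rw [hK3, hK2, hK1, map_conj_mul, map_conj_mul, h.comm hyL]
  have n1 : K1 ≠ K := by
    intro h1
    apply hne
    rw [← e1, h1, ← hK1, h1]
  have n2 : K1 ≠ K2 := by
    intro h1
    have h2 : K1.map (MulAut.conj y).toMonoidHom = K.map (MulAut.conj y).toMonoidHom := by rw [e1, ← hK1, h1]
    exact n1 (map_conj_inj h2)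
  have n3 : K3 ≠ K := by
    intro h1
    rw [e3, ← e2] at h1
    exact n2 (map_conj_inj h1)
  have n4 : K3 ≠ K2 := by
    intro h1
    rw [e3, hK2] at h1
    exact n1 (map_conj_inj h1)
  obtain ⟨d0, hd0, hd0o⟩ := exists_involution (hC.even K hK)
  have hd00 := sq_of_orderOf hd0o
  set e0 := z * d0 * z⁻¹ with he0
  have he0K : e0 ∈ K2 := conj_mem_map z hd0
  have hzinv : z⁻¹ = z := inv_eq_of_mul_eq_one_left h.sq
  have hc1 : d0 * e0 = e0 * d0 := hC.comm K hK K2 hK2m (fun h1 => hne h1.symm) d0 hd0 e0 he0K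
  obtain ⟨d, hd⟩ : ∃ d, d = d0 * e0 := ⟨_, rfl⟩
  rw [eq_comm] at hc1
  have hdH : d ∈ H := hd ▸ H.mul_mem (hC.le K hK hd0) (hC.le K2 hK2m he0K)
  have hze : z * e0 * z⁻¹ = d0 := by
    rw [he0, hzinv]
    calc z * (z * d0 * z) * z = (z * z) * d0 * (z * z) := by group
      _ = d0 := by rw [h.sq, one_mul, mul_one]
  have hdz : d * z = z * d := by
    have h1 : z * d * z⁻¹ = d := by
      calc z * d * z⁻¹ = (z * d0 * z⁻¹) * (z * e0 * z⁻¹) := by rw [hd]; group
        _ = d := by rw [hze, ← he0, hd]; exact hc1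
    rw [mul_inv_eq_iff_eq_mul] at h1
    exact h1.symm
  have hee : e0 * e0 = 1 := by
    rw [he0]
    calc z * d0 * z⁻¹ * (z * d0 * z⁻¹) = z * (d0 * d0) * z⁻¹ := by group
      _ = 1 := by rw [hd00]; group
  have hdd : d * d = 1 := by
    rw [hd]
    calc d0 * e0 * (d0 * e0) = d0 * (e0 * d0) * e0 := by group
      _ = (d0 * d0) * (e0 * e0) := by rw [hc1]; group
      _ = 1 := by rw [hd00, hee, one_mul]
  -- the conjugate by `y`
  set f1 := y * d0 * y⁻¹ with hf1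
  set f3 := y * e0 * y⁻¹ with hf3
  have hf1K : f1 ∈ K1 := conj_mem_map y hd0
  have hf3K : f3 ∈ K3 := conj_mem_map y he0K
  have hdy : y * d * y⁻¹ = f1 * f3 := by rw [hd, hf1, hf3]; group
  have hf1n : ∀ k ∈ K, f1 * k = k * f1 := fun k hk => hC.comm K1 hK1m K hK n1 f1 hf1K k hk
  have hf3n : ∀ k ∈ K, f3 * k = k * f3 := fun k hk => hC.comm K3 hK3m K hK n3 f3 hf3K k hk
  have hf1e : ∀ k ∈ K2, f1 * k = k * f1 := fun k hk => hC.comm K1 hK1m K2 hK2m n2 f1 hf1K k hk
  have hf3e : ∀ k ∈ K2, f3 * k = k * f3 := fun k hk => hC.comm K3 hK3m K2 hK2m n4 f3 hf3K k hk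
  have he0n : ∀ k ∈ K, e0 * k = k * e0 := fun k hk => (hC.comm K hK K2 hK2m (fun h1 => hne h1.symm) k hk e0 he0K).symm
  have hdinv : d⁻¹ = d := inv_eq_of_mul_eq_one_left hdd
  set w := d * y * d⁻¹ * y⁻¹ with hw
  have hwL : w ∈ L := L.mul_mem (h.cent d hdz y hyL) (L.inv_mem hyL)
  have hw' : w = d * (f1 * f3) := by rw [hw, hdinv, ← hdy]; group
  have hcomm : (f1 * f3) * d = d * (f1 * f3) := by
    rw [hd]
    calc (f1 * f3) * (d0 * e0) = f1 * (f3 * d0) * e0 := by group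
      _ = (f1 * d0) * (f3 * e0) := by rw [hf3n d0 hd0]; group
      _ = d0 * (f1 * e0) * f3 := by rw [hf1n d0 hd0, hf3e e0 he0K]; group
      _ = d0 * e0 * (f1 * f3) := by rw [hf1e e0 he0K]; group
  have hff : (f1 * f3) * (f1 * f3) = 1 := by
    rw [← hdy]
    calc y * d * y⁻¹ * (y * d * y⁻¹) = y * (d * d) * y⁻¹ := by group
      _ = 1 := by rw [hdd]; group
  have hww : w * w = 1 := by
    rw [hw']
    calc d * (f1 * f3) * (d * (f1 * f3)) = d * ((f1 * f3) * d) * (f1 * f3) := by group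
      _ = (d * d) * ((f1 * f3) * (f1 * f3)) := by rw [hcomm]; group
      _ = 1 := by rw [hdd, hff, one_mul]
  have hw1 : w ≠ 1 := by
    intro h1
    rw [hw'] at h1
    -- `d = (f1 f3)⁻¹` commutes with `K`
    have h2 : d = (f1 * f3)⁻¹ := eq_inv_of_mul_eq_one_left h1
    have h3 : ∀ k ∈ K, d * k = k * d := by
      intro k hk
      have h4 : Commute (f1 * f3) k := by
        show f1 * f3 * k = k * (f1 * f3)
        rw [mul_assoc, hf3n k hk, ← mul_assoc, hf1n k hk, mul_assoc]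
      rw [h2]
      exact h4.inv_left.eq
    apply hC.not_cent hK hd0 hd0o
    intro k hk
    have h6 := h3 k hk
    rw [hd, mul_assoc, he0n k hk] at h6
    have h7 : d0 * k * e0 = k * d0 * e0 := by rw [mul_assoc, h6, mul_assoc]
    exact mul_right_cancel h7
  have hwz : w = z := h.uniq w hwL (orderOf_eq_two_of_sq hww hw1)
  apply hne
  rw [hK2, ← hwz]
  apply map_conj_eq
  · intro x hx
    have h1 : w * x * w⁻¹ = d0 * x * d0⁻¹ := by
      have h2 : (f1 * f3) * x = x * (f1 * f3) := by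
        rw [mul_assoc, hf3n x hx, ← mul_assoc, hf1n x hx, mul_assoc]
      rw [hw', hd]
      calc d0 * e0 * (f1 * f3) * x * (d0 * e0 * (f1 * f3))⁻¹
          = d0 * e0 * ((f1 * f3) * x) * (f1 * f3)⁻¹ * e0⁻¹ * d0⁻¹ := by group
        _ = d0 * (e0 * x) * e0⁻¹ * d0⁻¹ := by rw [h2]; group
        _ = d0 * x * d0⁻¹ := by rw [he0n x hx]; group
    rw [h1]
    exact K.mul_mem (K.mul_mem hd0 hx) (K.inv_mem hd0)

/-- an involution `t` normalising a `2`-subgroup.. of even order group `K` commutes with an involution of `K` -/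
theorem exists_fixed_involution [Finite S] {K : Subgroup S} (hK : 2 ∣ Nat.card K) {Q : Subgroup S} (hQ : IsPGroup 2 Q)
    (hn : ∀ q ∈ Q, ∀ k ∈ K, q * k * q⁻¹ ∈ K) : ∃ c ∈ K, orderOf c = 2 ∧ ∀ q ∈ Q, q * c = c * q := by
  obtain ⟨P, hP, hQP⟩ := exists_isSyl (K ⊔ Q) Q le_sup_right hQ
  have hKn : ∀ a ∈ K ⊔ Q, ∀ k ∈ K, a * k * a⁻¹ ∈ K := by
    have h1 : K ⊔ Q ≤ normalizer (K : Set S) := sup_le le_normalizer (le_normalizer_of hn)
    intro a ha k hk
    exact (mem_normalizer_iff.mp (h1 ha) k).mp hk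
  have h2 := hP.inter le_sup_left hKn
  have h3 : P ⊓ K ≠ ⊥ := by
    intro h4
    apply h2.idx
    rw [h4, relIndex_bot_left]
    exact hK
  -- the centre of `P` meets `P ⊓ K`
  have h5 : ((P ⊓ K).subgroupOf P) ≠ ⊥ := by
    intro h6
    apply h3
    rw [subgroupOf_eq_bot, disjoint_iff] at h6
    rw [← h6]
    exact (inf_eq_left.mpr inf_le_left).symm
  have h7 : ((P ⊓ K).subgroupOf P).Normal := by
    refine ⟨fun n hn' g => ?_⟩
    rw [mem_subgroupOf] at hn' ⊢
    refine ⟨P.mul_mem (P.mul_mem g.2 hn'.1) (P.inv_mem g.2), hKn g (hP.le g.2) _ hn'.2⟩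
  have h8 : Nontrivial ((P ⊓ K).subgroupOf P) := (Subgroup.nontrivial_iff_ne_bot _).mpr h5
  have hnil : Group.IsNilpotent P := hP.pg.isNilpotent
  have h9 := Cfsg.Agent.Lib.NormalAbelian.normal_inf_center_ne_bot ((P ⊓ K).subgroupOf P) h5
  have h10 : ∃ x : P, x ∈ ((P ⊓ K).subgroupOf P ⊓ center P : Subgroup P) ∧ x ≠ 1 := by
    by_contra h11
    push Not at h11
    exact h9 ((Subgroup.eq_bot_iff_forall _).mpr h11)
  obtain ⟨x, hx, hx1⟩ := h10
  -- a power of `x` is an involution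
  obtain ⟨c, hc, hco⟩ : ∃ c ∈ ((P ⊓ K).subgroupOf P ⊓ center P : Subgroup P), orderOf c = 2 := by
    obtain ⟨k, hk⟩ := hP.pg x
    have h12 : orderOf x ∣ 2 ^ k := orderOf_dvd_of_pow_eq_one hk
    obtain ⟨m, -, hm⟩ := (Nat.dvd_prime_pow Nat.prime_two).mp h12
    have hm0 : m ≠ 0 := by
      rintro rfl
      rw [pow_zero, orderOf_eq_one_iff] at hm
      exact hx1 hm
    refine ⟨x ^ 2 ^ (m - 1), Subgroup.pow_mem _ hx _, ?_⟩
    have h13 : orderOf (x ^ 2 ^ (m - 1)) = 2 ^ m / 2 ^ (m - 1) := by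
      rw [orderOf_pow' x (by positivity), hm, Nat.gcd_eq_right (pow_dvd_pow 2 (Nat.sub_le m 1))]
    rw [h13, Nat.pow_div (Nat.sub_le m 1) (by norm_num), Nat.sub_sub_self (Nat.one_le_iff_ne_zero.mpr hm0), pow_one]
  refine ⟨c, (mem_subgroupOf.mp hc.1).2, by rw [Subgroup.orderOf_coe, hco], fun q hq => ?_⟩
  have h14 := mem_center_iff.mp hc.2 ⟨q, hQP hq⟩
  exact congrArg Subtype.val h14

/-- (b) `H ∩ L` fixes every component on which `z` acts nontrivially -/
theorem comp_b [Finite S] {L : Subgroup S} {z : S} (h : Fund L z) (hC : Comps H 𝒦) {K : Subgroup S} (hK : K ∈ 𝒦)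
    (hzK : K.map (MulAut.conj z).toMonoidHom = K) {j : S} (hjL : j ∈ L) (hjH : j ∈ H) :
    K.map (MulAut.conj j).toMonoidHom = K := by
  by_contra hne
  set K' := K.map (MulAut.conj j).toMonoidHom with hK'
  have hK'm : K' ∈ 𝒦 := hC.conj K hK j hjH
  have hne' : K ≠ K' := fun h1 => hne h1.symm
  have key : ∀ c ∈ K, orderOf c = 2 → c * z = z * c → c * (j * c * j⁻¹) = z := by
    intro c hc hco hcz
    have hcc := sq_of_orderOf hco
    have hcinv : c⁻¹ = c := inv_eq_of_mul_eq_one_left hcc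
    have h1 : c * j * c⁻¹ * j⁻¹ ∈ L := L.mul_mem (h.cent c hcz j hjL) (L.inv_mem hjL)
    have h2 : c * j * c⁻¹ * j⁻¹ = c * (j * c * j⁻¹) := by rw [hcinv]; group
    rw [h2] at h1
    have hc' : j * c * j⁻¹ ∈ K' := conj_mem_map j hc
    have h3 : c * (j * c * j⁻¹) = (j * c * j⁻¹) * c := hC.comm K hK K' hK'm hne' c hc _ hc'
    have h4 : (j * c * j⁻¹) * (j * c * j⁻¹) = 1 := by
      calc (j * c * j⁻¹) * (j * c * j⁻¹) = j * (c * c) * j⁻¹ := by group
        _ = 1 := by rw [hcc]; group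
    apply h.uniq _ h1
    apply orderOf_eq_two_of_sq
    · calc c * (j * c * j⁻¹) * (c * (j * c * j⁻¹)) = c * ((j * c * j⁻¹) * c) * (j * c * j⁻¹) := by group
        _ = (c * c) * ((j * c * j⁻¹) * (j * c * j⁻¹)) := by rw [← h3]; group
        _ = 1 := by rw [hcc, h4, one_mul]
    · intro h5
      have h6 : c = (j * c * j⁻¹)⁻¹ := eq_inv_of_mul_eq_one_left h5
      have h7 : c ∈ K' := h6 ▸ K'.inv_mem hc'
      have h8 := hC.odd_of_mem hK hK'm hne' hc h7
      rw [hco] at h8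
      exact absurd h8 (by decide)
  have uniq : ∀ c₁ ∈ K, ∀ c₂ ∈ K, orderOf c₁ = 2 → orderOf c₂ = 2 → c₁ * z = z * c₁ → c₂ * z = z * c₂ → c₁ = c₂ := by
    intro c₁ h1 c₂ h2 o1 o2 z1 z2
    have e := (key c₁ h1 o1 z1).trans (key c₂ h2 o2 z2).symm
    have h3 : c₂⁻¹ * c₁ = (j * c₂ * j⁻¹) * (j * c₁ * j⁻¹)⁻¹ := by
      calc c₂⁻¹ * c₁ = c₂⁻¹ * (c₁ * (j * c₁ * j⁻¹)) * (j * c₁ * j⁻¹)⁻¹ := by group
        _ = (j * c₂ * j⁻¹) * (j * c₁ * j⁻¹)⁻¹ := by rw [e]; group
    have h4 : c₂⁻¹ * c₁ ∈ K' := h3 ▸ K'.mul_mem (conj_mem_map j h2) (K'.inv_mem (conj_mem_map j h1))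
    have h5 := hC.odd_of_mem hK hK'm hne' (K.mul_mem (K.inv_mem h2) h1) h4
    have h6 : (c₂⁻¹ * c₁) * c₂ = c₂ * (c₂⁻¹ * c₁) := (hC.comm K hK K' hK'm hne' c₂ h2 _ h4).symm
    have h7 : (c₂⁻¹ * c₁) * (c₂⁻¹ * c₁) = 1 := by
      have e1 := sq_of_orderOf o1
      have e2 := sq_of_orderOf o2
      have e3 : c₂⁻¹ = c₂ := inv_eq_of_mul_eq_one_left e2
      rw [mul_inv_cancel_left, e3] at h6
      rw [e3]
      calc c₂ * c₁ * (c₂ * c₁) = c₂ * c₁ * c₂ * c₁ := by group
        _ = 1 := by rw [h6, e1]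
    have h8 := eq_one_of_odd_of_sq h5 h7
    rw [inv_mul_eq_one] at h8
    exact h8.symm
  have hz2 : IsPGroup 2 (zpowers z) := by
    rw [IsPGroup.iff_card]
    exact ⟨1, by rw [Nat.card_zpowers, h.ord, pow_one]⟩
  have hznorm : ∀ q ∈ zpowers z, ∀ k ∈ K, q * k * q⁻¹ ∈ K := by
    have h1 : z ∈ normalizer (K : Set S) := by
      rw [Subgroup.mem_normalizer_iff_map_conj_eq]
      exact hzK
    intro q hq k hk
    exact (mem_normalizer_iff.mp ((zpowers_le (H := normalizer (K : Set S))).mpr h1 hq) k).mp hk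
  obtain ⟨c, hc, hco, hcz'⟩ := exists_fixed_involution (hC.even K hK) hz2 hznorm
  have hcz : c * z = z * c := (hcz' z (mem_zpowers z)).symm
  have hkey := key c hc hco hcz
  -- `C_K(z) = C_K(c)`
  have hcent : ∀ x ∈ K, x * c = c * x → x * z = z * x := by
    intro x hx hxc
    have h1 : x * (j * c * j⁻¹) = (j * c * j⁻¹) * x := hC.comm K hK K' hK'm hne' x hx _ (conj_mem_map j hc)
    rw [← hkey]
    calc x * (c * (j * c * j⁻¹)) = (x * c) * (j * c * j⁻¹) := by group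
      _ = c * (x * (j * c * j⁻¹)) := by rw [hxc]; group
      _ = c * (j * c * j⁻¹) * x := by rw [h1]; group
  have huq : ∀ t ∈ K, orderOf t = 2 → t * c = c * t → t = c := fun t ht hto htc =>
    uniq t ht c hc hto hco (hcent t ht htc) hcz
  have hc2 : IsPGroup 2 (zpowers c) := by
    rw [IsPGroup.iff_card]
    exact ⟨1, by rw [Nat.card_zpowers, hco, pow_one]⟩
  obtain ⟨P, hP, hcP⟩ := exists_isSyl K (zpowers c) ((zpowers_le).mpr hc) hc2
  have hcP' : c ∈ P := hcP (mem_zpowers c)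
  obtain ⟨e, he, heo, heP⟩ := exists_fixed_involution (hC.even K hK) hP.pg
    (fun q hq k hk => K.mul_mem (K.mul_mem (hP.le hq) hk) (K.inv_mem (hP.le hq)))
  have hec : e = c := huq e he heo (heP c hcP').symm
  rw [hec] at heP
  obtain ⟨N, hNK, hNn, hNodd, hNc⟩ := zstar hP hcP' hco (fun g hg hgP => by
    apply huq _ (hP.le hgP) (by rw [orderOf_conj, hco])
    exact heP _ hgP)
  have hcen := hC.oddN K hK N hNK hNn hNodd
  apply hC.not_cent hK hc hco
  exact hC.perf K hK c (fun k hk => K.mul_mem (K.mul_mem hc hk) (K.inv_mem hc)) fun k hk l hl => hcen _ (hNc k hk) l hl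

theorem mem_sup_iff' {A B : Subgroup S} (h : ∀ b ∈ B, ∀ a ∈ A, b * a * b⁻¹ ∈ A) {x : S} :
    x ∈ A ⊔ B ↔ ∃ a ∈ A, ∃ b ∈ B, a * b = x := by
  rw [← SetLike.mem_coe, coe_mul_of_right_le_normalizer_left A B (le_normalizer_of h), Set.mem_mul]
  simp only [SetLike.mem_coe]

/-- **The component lemma.** -/
theorem comp [Finite S] {L : Subgroup S} {z : S} (h : Fund L z) {Q : Subgroup S} (hQ : IsSyl Q L) (hQH : Q ≤ H)
    {y : S} (hy : y ∈ Q) (hyz : y * y = z) {a b : S} (ha : a ∈ Q) (hb : b ∈ Q) (hab : a * b ≠ b * a)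
    (hC : Comps H 𝒦) {K : Subgroup S} (hK : K ∈ 𝒦) (hact : ∃ k ∈ K, z * k ≠ k * z) : z ∈ K := by
  by_contra hzK
  have hzQ : z ∈ Q := hyz ▸ Q.mul_mem hy hy
  have hzfix : K.map (MulAut.conj z).toMonoidHom = K := comp_a h hC (hQ.le hy) (hQH hy) hyz hK
  have hQK : ∀ q ∈ Q, ∀ k ∈ K, q * k * q⁻¹ ∈ K := fun q hq k hk =>
    conj_mem_of_map_eq (comp_b h hC hK hzfix (hQ.le hq) (hQH hq)) hk
  have hD : Odd (Nat.card (K ⊓ L : Subgroup S)) := by
    apply odd_of_no_involution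
    intro x hx hxo
    exact hzK (h.uniq x hx.2 hxo ▸ hx.1)
  have hQK1 : ∀ q ∈ Q, q ∈ K → q = 1 := fun q hq hqK => eq_one_of_odd hD hQ.pg ⟨hqK, hQ.le hq⟩ hq
  have hzc : ∀ q ∈ Q, q * z = z * q := fun q hq => h.comm (hQ.le hq)
  -- `X = C_K(z)`
  let X : Subgroup S := K ⊓ centralizer {z}
  have hX : ∀ x, x ∈ X ↔ x ∈ K ∧ x * z = z * x := by
    intro x
    show x ∈ K ⊓ centralizer {z} ↔ _
    rw [mem_inf, mem_centralizer_singleton_iff]
  have hQX : ∀ q ∈ Q, ∀ x ∈ X, q * x * q⁻¹ ∈ X := by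
    intro q hq x hx
    rw [hX] at hx ⊢
    refine ⟨hQK q hq x hx.1, ?_⟩
    have h1 := hzc q hq
    have h2 := hzc q⁻¹ (Q.inv_mem hq)
    calc q * x * q⁻¹ * z = q * x * (q⁻¹ * z) := by group
      _ = q * (x * z) * q⁻¹ := by rw [h2]; group
      _ = (q * z) * x * q⁻¹ := by rw [hx.2]; group
      _ = z * (q * x * q⁻¹) := by rw [h1]; group
  obtain ⟨R, hR, hQR⟩ := exists_isSyl (X ⊔ Q) Q le_sup_right hQ.pg
  have hXQ : X ⊔ Q ≤ K ⊔ Q := sup_le_sup_right inf_le_left Q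
  obtain ⟨R2, hR2, hRR2⟩ := exists_isSyl (K ⊔ Q) R (hR.le.trans hXQ) hR.pg
  have hQR2 : Q ≤ R2 := hQR.trans hRR2
  have hMK : ∀ g ∈ K ⊔ Q, ∀ k ∈ K, g * k * g⁻¹ ∈ K := by
    have h1 : K ⊔ Q ≤ normalizer (K : Set S) := sup_le le_normalizer (le_normalizer_of hQK)
    intro g hg k hk
    exact (mem_normalizer_iff.mp (h1 hg) k).mp hk
  have hMX : ∀ g ∈ X ⊔ Q, ∀ k ∈ X, g * k * g⁻¹ ∈ X := by
    have h1 : X ⊔ Q ≤ normalizer (X : Set S) := sup_le le_normalizer (le_normalizer_of hQX)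
    intro g hg k hk
    exact (mem_normalizer_iff.mp (h1 hg) k).mp hk
  have hS0 : IsSyl (R2 ⊓ K) K := hR2.inter le_sup_left hMK
  have hSK : IsSyl (R ⊓ X) X := hR.inter le_sup_left hMX
  have hSKeq : R2 ⊓ X = R ⊓ X := by
    apply hSK.eq_of_le inf_le_right (hR2.pg.to_le inf_le_left)
    exact inf_le_inf_right X hRR2
  have hcomm : ∀ r ∈ R2, r ∈ X → ∀ q ∈ Q, r * q = q * r := by
    intro r hr hrX q hq
    have h1 : r ∈ R ⊓ X := hSKeq ▸ ⟨hr, hrX⟩
    have hrX' := (hX r).mp hrX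
    have h2 : r * q * r⁻¹ * q⁻¹ = 1 := by
      apply eq_one_of_odd hD hR.pg
      · refine ⟨?_, L.mul_mem (h.cent r hrX'.2 q (hQ.le hq)) (L.inv_mem (hQ.le hq))⟩
        have h3 : r * q * r⁻¹ * q⁻¹ = r * (q * r⁻¹ * q⁻¹) := by group
        rw [h3]
        exact K.mul_mem hrX'.1 (hQK q hq _ (K.inv_mem hrX'.1))
      · exact R.mul_mem (R.mul_mem (R.mul_mem h1.1 (hQR hq)) (R.inv_mem h1.1)) (R.inv_mem (hQR hq))
    rwa [mul_inv_eq_one, mul_inv_eq_iff_eq_mul] at h2
  -- the common end: `g z g⁻¹ ≠ z` centralises `Q`, `z` centralises `g Q g⁻¹`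
  have hend : ∀ g : S, g * z * g⁻¹ ≠ z → (∀ u ∈ Q, g * z * g⁻¹ * u = u * (g * z * g⁻¹)) →
      (∀ u ∈ Q, z * (g * u * g⁻¹) = g * u * g⁻¹ * z) → ∀ u ∈ Q, ∀ v ∈ Q, u * (g * v * g⁻¹) = g * v * g⁻¹ * u := by
    intro g hne h1 h2 u hu v hv
    have f1 := h.fact hQ (by rw [orderOf_conj, h.ord]) hne h1 hzQ
    have f2 := (h.conj g).fact (hQ.conj g) h.ord hne.symm (by
      rintro _ ⟨w, hw, rfl⟩
      exact h2 w hw) (conj_mem_map g hzQ)
    exact h.commute (h.conj g) hne.symm f1 f2 u (hQ.le hu) _ (conj_mem_map g (hQ.le hv))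
  by_cases hcase : ∃ s ∈ R2 ⊓ K, s * z ≠ z * s
  · -- case B
    obtain ⟨s, hs, hsz⟩ := hcase
    have hQSK : ∀ q ∈ Q, ∀ r ∈ R2 ⊓ X, q * r * q⁻¹ ∈ R2 ⊓ X := by
      intro q hq r hr
      rw [← hcomm r hr.1 hr.2 q hq]
      simpa using hr
    have hQS0 : ∀ q ∈ Q, ∀ r ∈ R2 ⊓ K, q * r * q⁻¹ ∈ R2 ⊓ K := fun q hq r hr =>
      ⟨R2.mul_mem (R2.mul_mem (hQR2 hq) hr.1) (R2.inv_mem (hQR2 hq)), hQK q hq r hr.2⟩
    have hYmem := fun x => mem_sup_iff' (x := x) hQSK
    have hZmem := fun x => mem_sup_iff' (x := x) hQS0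
    have hYK : ∀ x ∈ (R2 ⊓ X) ⊔ Q, x ∈ K → x ∈ R2 ⊓ X := by
      intro x hx hxK
      obtain ⟨r, hr, q, hq, rfl⟩ := (hYmem x).mp hx
      have h1 : q ∈ K := by
        have := K.mul_mem (K.inv_mem ((hX r).mp hr.2).1) hxK
        rwa [inv_mul_cancel_left] at this
      rw [hQK1 q hq h1, mul_one]
      exact hr
    have hlt : (R2 ⊓ X) ⊔ Q < (R2 ⊓ K) ⊔ Q := by
      rw [SetLike.lt_iff_le_and_exists]
      refine ⟨sup_le_sup_right (inf_le_inf_left R2 inf_le_left) Q, s, mem_sup_left hs, fun h1 => ?_⟩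
      exact hsz ((hX s).mp (hYK s h1 hs.2).2).2
    have hZ2 : IsPGroup 2 ((R2 ⊓ K) ⊔ Q : Subgroup S) := hR2.pg.to_le (sup_le inf_le_left hQR2)
    obtain ⟨g, hg, hgY, hgn⟩ := exists_normalizing hlt hZ2
    obtain ⟨x, hx, q, hq, hxq⟩ := (hZmem g).mp hg
    have hxY : x ∉ (R2 ⊓ X) ⊔ Q := by
      intro h1
      apply hgY
      rw [← hxq]
      exact mul_mem h1 (mem_sup_right hq)
    have hxn : ∀ w ∈ (R2 ⊓ X) ⊔ Q, x * w * x⁻¹ ∈ (R2 ⊓ X) ⊔ Q := by
      intro w hw
      have h1 : q⁻¹ * w * q ∈ (R2 ⊓ X) ⊔ Q := mul_mem (mul_mem (inv_mem (mem_sup_right hq)) hw) (mem_sup_right hq)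
      have h2 := hgn _ h1
      have h3 : g * (q⁻¹ * w * q) * g⁻¹ = x * w * x⁻¹ := by rw [← hxq]; group
      rwa [h3] at h2
    have hc : ∀ u ∈ Q, x * u * x⁻¹ * u⁻¹ ∈ R2 ⊓ X := by
      intro u hu
      apply hYK
      · exact mul_mem (hxn u (mem_sup_right hu)) (inv_mem (mem_sup_right hu))
      · have h3 : x * u * x⁻¹ * u⁻¹ = x * (u * x⁻¹ * u⁻¹) := by group
        rw [h3]
        exact K.mul_mem hx.2 (hQK u hu _ (K.inv_mem hx.2))
    have hxz : x * z * x⁻¹ ≠ z := by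
      intro h1
      apply hxY
      apply mem_sup_left
      refine ⟨hx.1, (hX x).mpr ⟨hx.2, ?_⟩⟩
      rwa [mul_inv_eq_iff_eq_mul] at h1
    have hxu : ∀ u, x * u * x⁻¹ = (x * u * x⁻¹ * u⁻¹) * u := fun u => by group
    have e1 : ∀ u ∈ Q, x * z * x⁻¹ * u = u * (x * z * x⁻¹) := by
      intro u hu
      have h1 := hcomm _ (hc z hzQ).1 (hc z hzQ).2 u hu
      calc x * z * x⁻¹ * u = (x * z * x⁻¹ * z⁻¹) * (z * u) := by group
        _ = ((x * z * x⁻¹ * z⁻¹) * u) * z := by rw [← hzc u hu]; group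
        _ = u * (x * z * x⁻¹) := by rw [h1]; group
    have e2 : ∀ u ∈ Q, z * (x * u * x⁻¹) = x * u * x⁻¹ * z := by
      intro u hu
      have h1 := ((hX _).mp (hc u hu).2).2
      rw [hxu u]
      calc z * (x * u * x⁻¹ * u⁻¹ * u) = (z * (x * u * x⁻¹ * u⁻¹)) * u := by group
        _ = (x * u * x⁻¹ * u⁻¹) * (z * u) := by rw [← h1]; group
        _ = x * u * x⁻¹ * u⁻¹ * u * z := by rw [← hzc u hu]; group
    have hfin := hend x hxz e1 e2
    apply hab
    have h1 := hfin b hb a ha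
    have h2 := hcomm _ (hc a ha).1 (hc a ha).2 b hb
    have h3 : (x * a * x⁻¹ * a⁻¹) * (b * a) = (x * a * x⁻¹ * a⁻¹) * (a * b) := by
      calc (x * a * x⁻¹ * a⁻¹) * (b * a) = ((x * a * x⁻¹ * a⁻¹) * b) * a := by group
        _ = b * (x * a * x⁻¹) := by rw [h2]; group
        _ = (x * a * x⁻¹ * a⁻¹) * (a * b) := by rw [h1]; group
    exact (mul_left_cancel h3).symm
  · -- case A
    push Not at hcase
    have hS0X : ∀ s ∈ R2, s ∈ K → s ∈ X := fun s hs hsK => (hX s).mpr ⟨hsK, hcase s ⟨hs, hsK⟩⟩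
    have hS0c : ∀ s ∈ R2, s ∈ K → ∀ q ∈ Q, s * q = q * s := fun s hs hsK => hcomm s hs (hS0X s hs hsK)
    have hMmem := fun x => mem_sup_iff' (x := x) hQK
    have hR2mem : ∀ r ∈ R2, ∃ s ∈ R2, s ∈ K ∧ ∃ q ∈ Q, s * q = r := by
      intro r hr
      obtain ⟨k, hk, q, hq, hkq⟩ := (hMmem r).mp (hR2.le hr)
      refine ⟨k, ?_, hk, q, hq, hkq⟩
      have h1 : k = r * q⁻¹ := by rw [← hkq]; group
      rw [h1]
      exact R2.mul_mem hr (R2.inv_mem (hQR2 hq))
    have hzR2 : ∀ r ∈ R2, r * z = z * r := by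
      intro r hr
      obtain ⟨s, hs, hsK, q, hq, rfl⟩ := hR2mem r hr
      rw [mul_assoc, hzc q hq, ← mul_assoc, hcase s ⟨hs, hsK⟩, mul_assoc]
    have hnotiso : ∃ g ∈ K ⊔ Q, g * z * g⁻¹ ∈ R2 ∧ g * z * g⁻¹ ≠ z := by
      by_contra h1
      push Not at h1
      obtain ⟨N, -, hNn, hNodd, hNc⟩ := zstar hR2 (hQR2 hzQ) h.ord h1
      have h2 := hC.oddN K hK (N ⊓ K) inf_le_right (fun k hk n hn =>
        ⟨hNn k (mem_sup_left hk) n hn.1, K.mul_mem (K.mul_mem hk hn.2) (K.inv_mem hk)⟩)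
        (Odd.of_dvd_nat hNodd (Subgroup.card_dvd_of_le inf_le_left))
      obtain ⟨k, hk, hzk⟩ := hact
      apply hzk
      exact hC.perf K hK z (hQK z hzQ) (fun k hk l hl =>
        h2 _ ⟨hNc k (mem_sup_left hk), K.mul_mem (hQK z hzQ k hk) (K.inv_mem hk)⟩ l hl) k hk
    obtain ⟨g, hg, hgR, hgz⟩ := hnotiso
    obtain ⟨s, hs, hsK, u, hu, hsu⟩ := hR2mem _ hgR
    have huz : u = z := by
      obtain ⟨k, hk, q, hq, hkq⟩ := (hMmem g).mp hg
      have h1 : g * z * g⁻¹ = (k * (z * k⁻¹ * z⁻¹)) * z := by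
        rw [← hkq]
        have h2 := hzc q hq
        calc k * q * z * (k * q)⁻¹ = k * (q * z) * q⁻¹ * k⁻¹ := by group
          _ = (k * (z * k⁻¹ * z⁻¹)) * z := by rw [h2]; group
      rw [h1] at hsu
      have h3 : u * z⁻¹ = s⁻¹ * (k * (z * k⁻¹ * z⁻¹)) := by
        rw [eq_inv_mul_iff_mul_eq, ← mul_assoc, hsu]; group
      have h4 : u * z⁻¹ ∈ K := by
        rw [h3]
        exact K.mul_mem (K.inv_mem hsK) (K.mul_mem hk (hQK z hzQ _ (K.inv_mem hk)))
      have h5 := hQK1 _ (Q.mul_mem hu (Q.inv_mem hzQ)) h4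
      rwa [mul_inv_eq_one] at h5
    subst huz
    have e1 : ∀ v ∈ Q, g * u * g⁻¹ * v = v * (g * u * g⁻¹) := by
      intro v hv
      rw [← hsu]
      have h1 := hS0c s hs hsK v hv
      calc s * u * v = s * (u * v) := by group
        _ = (s * v) * u := by rw [← hzc v hv]; group
        _ = v * (s * u) := by rw [h1]; group
    -- the centraliser of `g z g⁻¹`
    let C : Subgroup S := (K ⊔ Q) ⊓ centralizer {g * u * g⁻¹}
    have hCm : ∀ x, x ∈ C ↔ x ∈ K ⊔ Q ∧ x * (g * u * g⁻¹) = (g * u * g⁻¹) * x := by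
      intro x
      show x ∈ (K ⊔ Q) ⊓ centralizer {g * u * g⁻¹} ↔ _
      rw [mem_inf, mem_centralizer_singleton_iff]
    have hleC : R2.map (MulAut.conj g).toMonoidHom ≤ C := by
        rintro _ ⟨r, hr, rfl⟩
        rw [hCm]
        refine ⟨mul_mem (mul_mem hg (hR2.le hr)) (inv_mem hg), ?_⟩
        have h1 := hzR2 r hr
        show g * r * g⁻¹ * (g * u * g⁻¹) = g * u * g⁻¹ * (g * r * g⁻¹)
        calc g * r * g⁻¹ * (g * u * g⁻¹) = g * (r * u) * g⁻¹ := by group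
          _ = g * u * g⁻¹ * (g * r * g⁻¹) := by rw [h1]; group
    have hsylC : IsSyl (R2.map (MulAut.conj g).toMonoidHom) C := by
      refine ⟨hleC, hR2.pg.map _, ?_⟩
      · intro h1
        apply (hR2.conj g).idx
        have h2 : (K ⊔ Q).map (MulAut.conj g).toMonoidHom = K ⊔ Q := map_conj_eq fun x hx =>
          mul_mem (mul_mem hg hx) (inv_mem hg)
        have h3 : C ≤ (K ⊔ Q).map (MulAut.conj g).toMonoidHom := by rw [h2]; exact inf_le_left
        exact h1.trans (Dvd.intro _ (Subgroup.relIndex_mul_relIndex _ _ _ hleC h3))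
    have hQC : Q ≤ C := fun v hv => (hCm v).mpr ⟨mem_sup_right hv, (e1 v hv).symm⟩
    obtain ⟨c, hc, hcQ⟩ := hsylC.conj_le hQC hQ.pg
    have hcC := (hCm c).mp hc
    obtain ⟨g₁, hg₁⟩ : ∃ g₁, g₁ = c * g := ⟨_, rfl⟩
    have hg₁M : g₁ ∈ K ⊔ Q := hg₁ ▸ mul_mem hcC.1 hg
    have hg₁z : g₁ * u * g₁⁻¹ = g * u * g⁻¹ := by
      rw [hg₁]
      calc c * g * u * (c * g)⁻¹ = (c * (g * u * g⁻¹)) * c⁻¹ := by group
        _ = g * u * g⁻¹ := by rw [hcC.2]; group
    have hg₁Q : ∀ v ∈ Q, g₁⁻¹ * v * g₁ ∈ R2 := by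
      intro v hv
      have h1 := mem_map_conj.mp (hcQ v hv)
      have h2 : g₁⁻¹ * v * g₁ = g⁻¹ * (c⁻¹ * v * c) * g := by rw [hg₁]; group
      rwa [h2]
    have e1' : ∀ v ∈ Q, g₁ * u * g₁⁻¹ * v = v * (g₁ * u * g₁⁻¹) := by rw [hg₁z]; exact e1
    have e2' : ∀ v ∈ Q, u * (g₁ * v * g₁⁻¹) = g₁ * v * g₁⁻¹ * u := by
      obtain ⟨s₁, hs₁, hs₁K, u₁, hu₁, hsu₁⟩ := hR2mem _ (hg₁Q u hu)
      have h1 : s₁ * u₁ = u₁ * s₁ := hS0c s₁ hs₁ hs₁K u₁ hu₁
      have h2 : (s₁ * u₁) * (s₁ * u₁) = 1 := by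
        rw [hsu₁]
        calc g₁⁻¹ * u * g₁ * (g₁⁻¹ * u * g₁) = g₁⁻¹ * (u * u) * g₁ := by group
          _ = 1 := by rw [h.sq]; group
      have h3 : u₁ * u₁ = (s₁ * s₁)⁻¹ := by
        rw [eq_inv_iff_mul_eq_one]
        calc u₁ * u₁ * (s₁ * s₁) = u₁ * (u₁ * s₁) * s₁ := by group
          _ = u₁ * (s₁ * u₁) * s₁ := by rw [h1]
          _ = (u₁ * s₁) * (u₁ * s₁) := by group
          _ = 1 := by rw [← h1, h2]
      have h4 : u₁ * u₁ = 1 := hQK1 _ (Q.mul_mem hu₁ hu₁) (h3 ▸ K.inv_mem (K.mul_mem hs₁K hs₁K))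
      have h5 : ∀ v ∈ Q, u₁ * v = v * u₁ := by
        intro v hv
        by_cases h6 : u₁ = 1
        · rw [h6, one_mul, mul_one]
        · rw [h.uniq u₁ (hQ.le hu₁) (orderOf_eq_two_of_sq h4 h6)]
          exact (hzc v hv).symm
      intro v hv
      have h6 : (g₁⁻¹ * u * g₁) * v = v * (g₁⁻¹ * u * g₁) := by
        rw [← hsu₁]
        calc s₁ * u₁ * v = s₁ * (u₁ * v) := by group
          _ = (s₁ * v) * u₁ := by rw [h5 v hv]; group
          _ = v * (s₁ * u₁) := by rw [hS0c s₁ hs₁ hs₁K v hv]; group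
      calc u * (g₁ * v * g₁⁻¹) = g₁ * ((g₁⁻¹ * u * g₁) * v) * g₁⁻¹ := by group
        _ = g₁ * v * g₁⁻¹ * u := by rw [h6]; group
    have hfin := hend g₁ (by rw [hg₁z]; exact hgz) e1' e2'
    -- the Sylow subgroup of the centraliser of `Q`
    let C₂ : Subgroup S := (K ⊔ Q) ⊓ centralizer (Q : Set S)
    have hC₂m : ∀ x, x ∈ C₂ ↔ x ∈ K ⊔ Q ∧ ∀ v ∈ Q, x * v = v * x := by
      intro x
      show x ∈ (K ⊔ Q) ⊓ centralizer (Q : Set S) ↔ _
      rw [mem_inf, mem_centralizer_iff]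
      constructor
      · rintro ⟨h1, h2⟩; exact ⟨h1, fun v hv => (h2 v hv).symm⟩
      · rintro ⟨h1, h2⟩; exact ⟨h1, fun v hv => (h2 v hv).symm⟩
    obtain ⟨T, hT, hTle⟩ := exists_isSyl C₂ (R2 ⊓ C₂) inf_le_right (hR2.pg.to_le inf_le_left)
    have hTR2 : T ≤ R2 := by
      have h1 : IsPGroup 2 (T ⊔ Q : Subgroup S) := by
        refine isPGroup_sup hT.pg hQ.pg fun b hb t ht => ?_
        have h2 := ((hC₂m t).mp (hT.le ht)).2 b hb
        rw [← h2]
        simpa using ht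
      have h2 : R2 ≤ T ⊔ Q := by
        intro r hr
        obtain ⟨s', hs', hs'K, q, hq, rfl⟩ := hR2mem r hr
        refine mul_mem (mem_sup_left (hTle ⟨hs', (hC₂m s').mpr ⟨mem_sup_left hs'K, hS0c s' hs' hs'K⟩⟩)) (mem_sup_right hq)
      have h3 := hR2.eq_of_le (sup_le (hT.le.trans inf_le_left) le_sup_right) h1 h2
      exact le_sup_left.trans h3.le
    have hQ' : Q.map (MulAut.conj g₁).toMonoidHom ≤ C₂ := by
      rintro _ ⟨v, hv, rfl⟩
      rw [hC₂m]
      exact ⟨mul_mem (mul_mem hg₁M (mem_sup_right hv)) (inv_mem hg₁M), fun w hw => (hfin w hw v hv).symm⟩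
    obtain ⟨m, hm, hmQ⟩ := hT.conj_le hQ' (hQ.pg.map _)
    have hform : ∀ v ∈ Q, ∃ s ∈ R2, s ∈ K ∧ ∃ q ∈ Q, (∀ w ∈ Q, q * w = w * q) ∧ s * q = m⁻¹ * (g₁ * v * g₁⁻¹) * m := by
      intro v hv
      have h1 := hmQ _ (conj_mem_map g₁ hv)
      obtain ⟨s', hs', hs'K, q, hq, hsq⟩ := hR2mem _ (hTR2 h1)
      refine ⟨s', hs', hs'K, q, hq, fun w hw => ?_, hsq⟩
      have h2 := ((hC₂m _).mp (hT.le h1)).2 w hw
      rw [← hsq] at h2
      have h3 := hS0c s' hs' hs'K w hw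
      have h4 : s' * (q * w) = s' * (w * q) := by
        calc s' * (q * w) = s' * q * w := by group
          _ = (w * s') * q := by rw [h2]; group
          _ = s' * (w * q) := by rw [← h3]; group
      exact mul_left_cancel h4
    obtain ⟨s₁, hs₁, hs₁K, q₁, hq₁, hq₁c, hsq₁⟩ := hform a ha
    obtain ⟨s₂, hs₂, hs₂K, q₂, hq₂, hq₂c, hsq₂⟩ := hform b hb
    have hcomm' : a * b * a⁻¹ * b⁻¹ ∈ K := by
      have h1 : (s₁ * q₁) * (s₂ * q₂) * (s₁ * q₁)⁻¹ * (s₂ * q₂)⁻¹ = s₁ * s₂ * s₁⁻¹ * s₂⁻¹ := by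
        have c1 := hS0c s₂ hs₂ hs₂K q₁ hq₁
        have c2 := hS0c s₁ hs₁ hs₁K q₁ hq₁
        have c3 := hS0c s₁ hs₁ hs₁K q₂ hq₂
        have c4 := hS0c s₂ hs₂ hs₂K q₂ hq₂
        have c5 := hq₁c q₂ hq₂
        have k1 : (s₁ * q₁) * (s₂ * q₂) = (s₁ * s₂) * (q₁ * q₂) := by
          calc (s₁ * q₁) * (s₂ * q₂) = s₁ * (q₁ * s₂) * q₂ := by group
            _ = (s₁ * s₂) * (q₁ * q₂) := by rw [← c1]; group
        have k2 : (s₂ * q₂) * (s₁ * q₁) = (s₂ * s₁) * (q₁ * q₂) := by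
          calc (s₂ * q₂) * (s₁ * q₁) = s₂ * (q₂ * s₁) * q₁ := by group
            _ = (s₂ * s₁) * (q₂ * q₁) := by rw [← c3]; group
            _ = (s₂ * s₁) * (q₁ * q₂) := by rw [c5]
        calc (s₁ * q₁) * (s₂ * q₂) * (s₁ * q₁)⁻¹ * (s₂ * q₂)⁻¹
            = ((s₁ * q₁) * (s₂ * q₂)) * ((s₂ * q₂) * (s₁ * q₁))⁻¹ := by group
          _ = s₁ * s₂ * s₁⁻¹ * s₂⁻¹ := by rw [k1, k2]; group
      rw [hsq₁, hsq₂] at h1
      have h2 : (m⁻¹ * (g₁ * a * g₁⁻¹) * m) * (m⁻¹ * (g₁ * b * g₁⁻¹) * m) * (m⁻¹ * (g₁ * a * g₁⁻¹) * m)⁻¹ *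
          (m⁻¹ * (g₁ * b * g₁⁻¹) * m)⁻¹ = (m⁻¹ * g₁) * (a * b * a⁻¹ * b⁻¹) * (m⁻¹ * g₁)⁻¹ := by group
      rw [h2] at h1
      have h3 : a * b * a⁻¹ * b⁻¹ = (g₁⁻¹ * m) * (s₁ * s₂ * s₁⁻¹ * s₂⁻¹) * (g₁⁻¹ * m)⁻¹ := by rw [← h1]; group
      rw [h3]
      apply hMK _ (mul_mem (inv_mem hg₁M) ((hC₂m m).mp hm).1)
      exact K.mul_mem (K.mul_mem (K.mul_mem hs₁K hs₂K) (K.inv_mem hs₁K)) (K.inv_mem hs₂K)
    have h4 := hQK1 _ (Q.mul_mem (Q.mul_mem (Q.mul_mem ha hb) (Q.inv_mem ha)) (Q.inv_mem hb)) hcomm'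
    rw [mul_inv_eq_one, mul_inv_eq_iff_eq_mul] at h4
    exact hab h4

end comps

end Cfsg.Agent.H102.RV
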