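import Cfsg.Agent.H102.RV.Frame
import Cfsg.Agent.H273.Sidki
import Cfsg.Prelude.Def_Balance
import Cfsg.Prelude.Def_LieTypeChar
import Cfsg.Prelude.Def_Spor_Mathieu

/-!
# The almost simple quotient (helper102)
-/

set_option autoImplicit false
set_option linter.style.haveILetI false

namespace Cfsg.Agent.H102.RV

open Subgroup Cfsg
open scoped commutatorElement

universe u

/-- the conclusion of the theorem on classical involutions (S1309) -/
def CitType (K : Type u) [Group K] : Prop :=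
  (∃ p : ℕ, p.Prime ∧ p ≠ 2 ∧ Cfsg.IsLieTypeChar p K) ∨ Cfsg.Spor.IsoM11 K ∨ Cfsg.Spor.IsoM12 K ∨
    (∃ (F : Type) (_ : Field F) (_ : Fintype F), Fintype.card F = 2 ∧
      (Nonempty (K ≃* Cfsg.PSp 3 F) ∨ Nonempty (K ≃* Cfsg.POmega F (Cfsg.quadFormPlus 4 F))))

/-- S1309 -/
def Cit : Prop := ∀ (G : Type u) [Group G] [Finite G] (_ : IsSimpleGroup ↥(Cfsg.generalizedFittingSubgroup G))
  (_ : ¬ IsMulCommutative ↥(Cfsg.generalizedFittingSubgroup G)) (z : G) (_ : orderOf z = 2) (J : Subgroup G)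
  (_ : J ≤ Subgroup.centralizer ({z} : Set G)) (_ : z ∈ J)
  (_ : (J.subgroupOf (Subgroup.centralizer ({z} : Set G))).IsSubnormal)
  (_ : ∃ S : Sylow 2 ↥J, ∃ n : ℕ, Nonempty (↥(S : Subgroup ↥J) ≃* QuaternionGroup (2 ^ (n + 1))))
  (_ : ∀ t ∈ J, orderOf t = 2 → t = z)
  (_ : ∀ u ∈ Subgroup.centralizer ({z} : Set G), J.map (MulAut.conj u).toMonoidHom = J ∨
    ⁅J, J.map (MulAut.conj u).toMonoidHom⁆ ≤ (Cfsg.oddCore ↥J).map J.subtype ⊓
      (Cfsg.oddCore ↥(J.map (MulAut.conj u).toMonoidHom)).map (J.map (MulAut.conj u).toMonoidHom).subtype)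
  (_ : ∀ y ∈ J, ∀ g : G, IsPGroup 2 ↥(Subgroup.zpowers y) → 4 ≤ orderOf y →
    g * y * g⁻¹ ∈ Subgroup.centralizer ({z} : Set G) → g * y * g⁻¹ ∈ Subgroup.normalizer (J : Set G)),
  CitType ↥(Cfsg.generalizedFittingSubgroup G)

structure EndData {G : Type u} [Group G] (C J Q : Subgroup G) (z : G) : Prop where
  comp : IsComponent C
  norm : C.Normal
  odd : Odd (Nat.card (centralizer (C : Set G)))
  ord : orderOf z = 2
  memC : z ∈ C
  memJ : z ∈ J
  uniq : ∀ t ∈ J, orderOf t = 2 → t = z
  cent : ∀ g : G, g * z = z * g → ∀ j ∈ J, g * j * g⁻¹ ∈ J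
  syl : IsSyl Q J
  quat : ∃ n : ℕ, Nonempty (Q ≃* QuaternionGroup (2 ^ (n + 1)))

namespace EndData

variable {G : Type u} [Group G] [Finite G] {C J Q : Subgroup G} {z : G}

theorem one_of_odd {R : Subgroup G} (hR : Odd (Nat.card R)) {x : G} (hx : x ∈ R) (h2 : IsPGroup 2 (zpowers x)) : x = 1 :=
  eq_one_of_odd hR h2 hx (mem_zpowers x)

/-- the quotient by the centraliser of the component -/
theorem main (hCit : Cit.{u}) (h : EndData C J Q z) :
    ∃ (X : Type u) (_ : Group X) (_ : Finite X) (Y : Subgroup X) (f : G →* X), Function.Surjective f ∧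
      Odd (Nat.card f.ker) ∧ Y.Normal ∧ IsSimpleGroup Y ∧ ¬ IsMulCommutative Y ∧ centralizer (Y : Set X) = ⊥ ∧
      Nonempty (Y ≃* ↥C ⧸ center ↥C) ∧ CitType Y := by
  haveI := h.norm
  let R : Subgroup G := centralizer (C : Set G)
  haveI hRn : R.Normal := inferInstanceAs (centralizer (C : Set G)).Normal
  let f : G →* G ⧸ R := QuotientGroup.mk' R
  have hfs : Function.Surjective f := QuotientGroup.mk'_surjective R
  have hker : f.ker = R := QuotientGroup.ker_mk' R
  have hperf : ⁅C, C⁆ = C := by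
    have h4 : ⁅(⊤ : Subgroup C), ⊤⁆ = ⊤ :=
      (Cfsg.Agent.SignalizersComponents.Components.quasisimple_isPerfect h.comp.2).commutator_eq_top
    have := congrArg (fun X : Subgroup C => X.map C.subtype) h4
    simp only [Subgroup.map_commutator] at this
    rwa [← MonoidHom.range_eq_map, range_subtype] at this
  have hRm : ∀ x : G, x ∈ R ↔ ∀ c ∈ C, x * c = c * x := by
    intro x
    show x ∈ centralizer (C : Set G) ↔ _
    rw [mem_centralizer_iff]
    exact ⟨fun h c hc => (h c hc).symm, fun h c hc => (h c hc).symm⟩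
  let Y : Subgroup (G ⧸ R) := C.map f
  have hYn : Y.Normal := h.norm.map f hfs
  -- `Y ≃ C / Z(C)`
  let g : C →* Y := (f.comp C.subtype).codRestrict Y (fun c => ⟨c, c.2, rfl⟩)
  have hgs : Function.Surjective g := by
    rintro ⟨_, c, hc, rfl⟩
    exact ⟨⟨c, hc⟩, rfl⟩
  have hgk : g.ker = center C := by
    ext c
    rw [MonoidHom.mem_ker, mem_center_iff]
    constructor
    · intro hc d
      have h1 : f c = 1 := congrArg Subtype.val hc
      have h2 : (c : G) ∈ f.ker := h1
      rw [hker, hRm] at h2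
      apply Subtype.ext
      exact (h2 d d.2).symm
    · intro hc
      apply Subtype.ext
      show f c = 1
      have h2 : (c : G) ∈ f.ker := by
        rw [hker, hRm]
        intro d hd
        exact (congrArg Subtype.val (hc ⟨d, hd⟩)).symm
      exact h2
  have e : Y ≃* ↥C ⧸ center ↥C :=
    ((QuotientGroup.quotientMulEquivOfEq hgk.symm).trans (QuotientGroup.quotientKerEquivOfSurjective g hgs)).symm
  have hsC : IsSimpleGroup (C ⧸ center C) := h.comp.2.2
  have hsY : IsSimpleGroup Y := by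
    haveI : Nontrivial Y := e.toEquiv.nontrivial
    exact IsSimpleGroup.isSimpleGroup_of_surjective e.symm.toMonoidHom e.symm.surjective
  have hnY : ¬ IsMulCommutative Y := by
    intro hc
    have h1 : Group.IsSolvable C := by
      have h2 : Group.IsSolvable Y := by
        haveI := hc
        exact Group.isSolvable_of_comm (fun a b => hc.is_comm.comm a b)
      have h3 : Group.IsSolvable (g.ker) := by
        rw [hgk]
        exact Group.isSolvable_of_comm (fun a b => Subtype.ext (mem_center_iff.mp b.2 a))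
      exact Group.isSolvable_of_ker_le_range g.ker.subtype g (by rw [range_subtype])
    exact Cfsg.Agent.SignalizersComponents.Components.quasisimple_not_isSolvable h.comp.2 h1
  have hcY : centralizer (Y : Set (G ⧸ R)) = ⊥ := by
    rw [eq_bot_iff]
    intro x' hx'
    obtain ⟨x, rfl⟩ := hfs x'
    have h1 : ∀ c ∈ C, x * c * x⁻¹ * c⁻¹ ∈ R := by
      intro c hc
      have h2 := (mem_centralizer_iff.mp hx') (f c) ⟨c, hc, rfl⟩
      have h3 : f (x * c * x⁻¹ * c⁻¹) = 1 := by
        simp only [map_mul, map_inv]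
        rw [← h2]; group
      rw [← hker]
      exact h3
    have h2 : x ∈ R := by
      rw [hRm]
      exact comm_of_perfect hperf (fun k hk l hl => (hRm _).mp (h1 k hk) l hl) fun k hk => h.norm.conj_mem k hk x
    rw [mem_bot]
    have h3 : x ∈ f.ker := by rw [hker]; exact h2
    exact h3
  have hF : generalizedFittingSubgroup (G ⧸ R) = Y := Cfsg.Agent.H273.Sidki.genFitting_eq hYn hsY hnY hcY
  have hRodd : Odd (Nat.card R) := h.odd
  have hfR : ∀ r ∈ R, f r = 1 := fun r hr => by
    have : r ∈ f.ker := by rw [hker]; exact hr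
    exact this
  have hfR' : ∀ x, f x = 1 → x ∈ R := fun x hx => by
    have : x ∈ f.ker := hx
    rwa [hker] at this
  have hzz : z * z = 1 := sq_of_orderOf h.ord
  have hz2 : IsPGroup 2 (zpowers z) := by
    rw [IsPGroup.iff_card]
    exact ⟨1, by rw [Nat.card_zpowers, h.ord, pow_one]⟩
  have hz1 : z ≠ 1 := by
    intro h1
    have := h.ord
    rw [h1, orderOf_one] at this
    omega
  have hfz : orderOf (f z) = 2 := by
    apply orderOf_eq_two_of_sq
    · rw [← map_mul, hzz, map_one]
    · intro h1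
      exact hz1 (one_of_odd hRodd (hfR' z h1) hz2)
  have hJz : ∀ j ∈ J, j * z = z * j := by
    intro j hj
    have h1 : j * z * j⁻¹ = z := h.uniq _ (J.mul_mem (J.mul_mem hj h.memJ) (J.inv_mem hj)) (by rw [orderOf_conj, h.ord])
    rwa [mul_inv_eq_iff_eq_mul] at h1
  -- centralisers lift
  have hlift : ∀ x : G, f x * f z = f z * f x → ∃ r ∈ R, (r * x) * z = z * (r * x) := by
    intro x hx
    have h1 : x * z * x⁻¹ * z⁻¹ ∈ R := by
      apply hfR'
      simp only [map_mul, map_inv]
      rw [hx]; group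
    have hMm := fun y => mem_sup_iff' (x := y) (A := R) (B := zpowers z) (fun b _ a ha => hRn.conj_mem a ha b)
    obtain ⟨P, hP, hzP⟩ := exists_isSyl (R ⊔ zpowers z) (zpowers z) le_sup_right hz2
    have hPz : P ≤ zpowers z := by
      intro y hy
      obtain ⟨r, hr, b, hb, hrb⟩ := (hMm y).mp (hP.le hy)
      have h2 : r ∈ P := by
        have : r = y * b⁻¹ := by rw [← hrb]; group
        rw [this]
        exact P.mul_mem hy (P.inv_mem (hzP hb))
      have h3 : r = 1 := eq_one_of_odd hRodd hP.pg hr h2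
      rw [← hrb, h3, one_mul]
      exact hb
    have hz'M : zpowers (x * z * x⁻¹) ≤ R ⊔ zpowers z := by
      rw [zpowers_le]
      have h2 : x * z * x⁻¹ = (x * z * x⁻¹ * z⁻¹) * z := by group
      rw [h2]
      exact mul_mem (mem_sup_left h1) (mem_sup_right (mem_zpowers z))
    have hz'2 : IsPGroup 2 (zpowers (x * z * x⁻¹)) := by
      rw [IsPGroup.iff_card]
      exact ⟨1, by rw [Nat.card_zpowers, orderOf_conj, h.ord, pow_one]⟩
    obtain ⟨a, ha, haP⟩ := hP.conj_le hz'M hz'2
    have h3 := hPz (haP _ (mem_zpowers _))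
    have h4 : ∀ w ∈ zpowers z, w = 1 ∨ w = z := by
      intro w hw
      obtain ⟨k, rfl⟩ := mem_zpowers_iff.mp hw
      rcases Int.even_or_odd' k with ⟨m, rfl | rfl⟩
      · left
        rw [zpow_mul, zpow_ofNat, pow_two, hzz, one_zpow]
      · right
        rw [zpow_add, zpow_mul, zpow_ofNat, pow_two, hzz, one_zpow, one_mul, zpow_one]
    have h5 : a⁻¹ * (x * z * x⁻¹) * a = z := by
      rcases h4 _ h3 with h5 | h5
      · exfalso
        have h6 : orderOf (a⁻¹ * (x * z * x⁻¹) * a) = 2 := by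
          have := orderOf_conj a⁻¹ (x * z * x⁻¹)
          rw [inv_inv] at this
          rw [this, orderOf_conj, h.ord]
        rw [h5, orderOf_one] at h6
        omega
      · exact h5
    obtain ⟨r, hr, b, hb, rfl⟩ := (hMm a).mp ha
    refine ⟨r⁻¹, R.inv_mem hr, ?_⟩
    have hbz : b * z * b⁻¹ = z := by
      rcases h4 b hb with h6 | h6
      · rw [h6]; group
      · rw [h6]; group
    have h6 : r⁻¹ * (x * z * x⁻¹) * r = z := by
      have h7 : r⁻¹ * (x * z * x⁻¹) * r = b * ((r * b)⁻¹ * (x * z * x⁻¹) * (r * b)) * b⁻¹ := by group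
      rw [h7, h5, hbz]
    calc (r⁻¹ * x) * z = (r⁻¹ * (x * z * x⁻¹) * r) * (r⁻¹ * x) := by group
      _ = z * (r⁻¹ * x) := by rw [h6]
  let J' : Subgroup (G ⧸ R) := J.map f
  have hJ'z : ∀ j ∈ J', j * f z = f z * j := by
    rintro _ ⟨j, hj, rfl⟩
    rw [← map_mul, hJz j hj, map_mul]
  have hnorm : ∀ u ∈ Subgroup.centralizer ({f z} : Set (G ⧸ R)), ∀ j ∈ J', u * j * u⁻¹ ∈ J' := by
    rintro u' hu' _ ⟨j, hj, rfl⟩
    obtain ⟨u, rfl⟩ := hfs u'
    rw [mem_centralizer_singleton_iff] at hu'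
    obtain ⟨r, hr, hrx⟩ := hlift u hu'
    refine ⟨_, h.cent _ hrx j hj, ?_⟩
    rw [map_mul, map_mul, map_inv, map_mul, hfR r hr, one_mul]
  have hinj : ∀ q ∈ Q, f q = 1 → q = 1 := fun q hq h1 => eq_one_of_odd hRodd h.syl.pg (hfR' q h1) hq
  have eQ : Q ≃* ↥(Q.map f) := by
    refine MulEquiv.ofBijective (f.subgroupMap Q) ⟨?_, f.subgroupMap_surjective Q⟩
    rw [injective_iff_map_eq_one]
    intro q hq
    apply Subtype.ext
    exact hinj q q.2 (congrArg Subtype.val hq)
  have hQ' : IsSyl (Q.map f) J' := by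
    refine ⟨Subgroup.map_mono h.syl.le, h.syl.pg.map f, ?_⟩
    intro h2
    have e1 : Nat.card (Q.map f) * (Q.map f).relIndex (J.map f) = Nat.card (J.map f) := by
      have h3 := Subgroup.relIndex_mul_relIndex ⊥ (Q.map f) (J.map f) bot_le (Subgroup.map_mono h.syl.le)
      rwa [relIndex_bot_left, relIndex_bot_left] at h3
    have e2 : Nat.card Q * Q.relIndex J = Nat.card J := by
      have h3 := Subgroup.relIndex_mul_relIndex ⊥ Q J bot_le h.syl.le
      rwa [relIndex_bot_left, relIndex_bot_left] at h3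
    have e3 : Nat.card (J.map f) ∣ Nat.card J := by
      exact Subgroup.card_map_dvd J f
    have e4 : Nat.card (Q.map f) = Nat.card Q := Nat.card_congr eQ.symm.toEquiv
    rw [← e1, ← e2, e4] at e3
    have e5 := Nat.dvd_of_mul_dvd_mul_left Nat.card_pos e3
    exact h.syl.idx (h2.trans e5)
  have hcit := hCit (G ⧸ R) (by rw [hF]; exact hsY) (by rw [hF]; exact hnY) (f z) hfz J'
    (by
      intro j hj
      rw [mem_centralizer_singleton_iff]
      exact hJ'z j hj) ⟨z, h.memJ, rfl⟩
    (by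
      have h1 : (J'.subgroupOf (Subgroup.centralizer ({f z} : Set (G ⧸ R)))).Normal := by
        refine ⟨fun n hn g => ?_⟩
        rw [mem_subgroupOf] at hn ⊢
        exact hnorm g g.2 _ hn
      exact Normal.isSubnormal h1)
    (by
      obtain ⟨n, ⟨eq⟩⟩ := h.quat
      have h1 : IsPGroup 2 ((Q.map f).subgroupOf J') := hQ'.pg.comap_of_injective J'.subtype J'.subtype_injective
      refine ⟨h1.toSylow hQ'.idx, n, ⟨?_⟩⟩
      have e1 : ((h1.toSylow hQ'.idx : Sylow 2 J') : Subgroup J') ≃* ↥(Q.map f) :=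
        Subgroup.subgroupOfEquivOfLe hQ'.le
      exact (e1.trans eQ.symm).trans eq)
    (by
      intro t ht hto
      have ht2 : IsPGroup 2 (zpowers t) := by
        rw [IsPGroup.iff_card]
        exact ⟨1, by rw [Nat.card_zpowers, hto, pow_one]⟩
      obtain ⟨a, ha, haQ⟩ := hQ'.conj_le ((zpowers_le).mpr ht) ht2
      obtain ⟨q, hq, hqt⟩ := haQ t (mem_zpowers t)
      have h1 : f q * f q = 1 := by
        rw [hqt]
        calc a⁻¹ * t * a * (a⁻¹ * t * a) = a⁻¹ * (t * t) * a := by group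
          _ = 1 := by rw [sq_of_orderOf hto]; group
      have h2 : q * q = 1 := hinj _ (Q.mul_mem hq hq) (by rw [map_mul, h1])
      have h3 : q ≠ 1 := by
        rintro rfl
        rw [map_one] at hqt
        have h4 : t = 1 := by
          calc t = a * (a⁻¹ * t * a) * a⁻¹ := by group
            _ = 1 := by rw [← hqt]; group
        rw [h4, orderOf_one] at hto
        omega
      have h4 : q = z := h.uniq q (h.syl.le hq) (orderOf_eq_two_of_sq h2 h3)
      have h5 := hJ'z a ha
      calc t = a * (a⁻¹ * t * a) * a⁻¹ := by group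
        _ = (a * f z) * a⁻¹ := by rw [← hqt, h4]
        _ = f z := by rw [h5]; group)
    (by
      intro u hu
      left
      exact map_conj_eq (hnorm u hu))
    (by
      intro y _ g _ _ hg
      exact le_normalizer_of hnorm hg)
  rw [hF] at hcit
  exact ⟨G ⧸ R, inferInstance, inferInstance, Y, f, hfs, by rw [hker]; exact hRodd, hYn, hsY, hnY, hcY, ⟨e⟩, hcit⟩

end EndData

end Cfsg.Agent.H102.RV
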