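import Cfsg.Agent.H102.RV.Main
import Cfsg.Agent.H102.RV.Cit
import Cfsg.Agent.H808.RV.FMain
import Cfsg.Agent.H418.NN.Wrap
import Cfsg.Agent.S0016

/-!
# The `N`-row of the exceptional groups: the end (helper102)
-/

set_option autoImplicit false
set_option linter.style.haveILetI false

namespace Cfsg.Agent.H102.RV

open Subgroup Cfsg Cfsg.Agent.H808.RV
open scoped commutatorElement

universe u

/-- the data: for every Sylow `2`-subgroup a frame, its relations, Lemma A -/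
def ExcData (p : ℕ) (S : Type u) [Group S] : Prop :=
  ∀ P : Sylow 2 S, ∃ (ι : Type) (_ : Finite ι) (_ : Nonempty ι) (L : ι → Subgroup S) (z : ι → S),
    FrameD (P : Subgroup S) L z ∧ Rel z ∧ ∀ R : Subgroup S, Odd (Nat.card R) → ¬ p ∣ Nat.card R →
      (∀ x ∈ P, ∀ r ∈ R, x * r * x⁻¹ ∈ R) → ∀ i, ∀ r ∈ R, z i * r = r * z i

/-- a nonabelian `2`-group with only one involution is generalised quaternion -/
theorem exists_quat {S : Type*} [Group S] [Finite S] {Q : Subgroup S} (hQ : IsPGroup 2 Q) {z : S}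
    (hu : ∀ t ∈ Q, orderOf t = 2 → t = z) (hna : ∃ a ∈ Q, ∃ b ∈ Q, a * b ≠ b * a) :
    ∃ n : ℕ, Nonempty (Q ≃* QuaternionGroup (2 ^ (n + 1))) := by
  have := Fact.mk Nat.prime_two
  obtain ⟨a, ha, b, hb, hab⟩ := hna
  have key : ∀ A B : Subgroup Q, Nat.card A = 2 → Nat.card B = 2 → A = B := by
    intro A B hA hB
    obtain ⟨x, hx⟩ := exists_prime_orderOf_dvd_card' (G := A) 2 (dvd_of_eq hA.symm)
    obtain ⟨y, hy⟩ := exists_prime_orderOf_dvd_card' (G := B) 2 (dvd_of_eq hB.symm)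
    have hx' : orderOf ((x : Q) : S) = 2 := by rw [Subgroup.orderOf_coe, Subgroup.orderOf_coe, hx]
    have hy' : orderOf ((y : Q) : S) = 2 := by rw [Subgroup.orderOf_coe, Subgroup.orderOf_coe, hy]
    have hxy : (x : Q) = y := Subtype.ext ((hu _ (x : Q).2 hx').trans (hu _ (y : Q).2 hy').symm)
    have h1 : zpowers (x : Q) ≤ A := zpowers_le.mpr x.2
    have h2 : zpowers (x : Q) ≤ B := zpowers_le.mpr (hxy ▸ y.2)
    have h3 : Nat.card (zpowers (x : Q)) = 2 := by rw [Nat.card_zpowers, Subgroup.orderOf_coe, hx]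
    have h4 := Subgroup.eq_of_le_of_card_ge h1 (by rw [hA, h3])
    have h5 := Subgroup.eq_of_le_of_card_ge h2 (by rw [hB, h3])
    rw [← h4, ← h5]
  have hnc : ¬ IsCyclic Q := by
    intro hc
    apply hab
    let _ : CommGroup Q := IsCyclic.commGroup
    exact congrArg Subtype.val (mul_comm (⟨a, ha⟩ : Q) ⟨b, hb⟩)
  rcases Cfsg.Agent.S0016.result 2 hQ key with h | ⟨-, n, ⟨e⟩⟩
  · exact absurd h hnc
  · rcases n with _ | n
    · exfalso
      apply hnc
      have h1 : IsCyclic (QuaternionGroup (2 ^ 0)) := by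
        rw [pow_zero]; exact QuaternionGroup.quaternionGroup_one_isCyclic
      exact isCyclic_of_surjective e.symm e.symm.surjective
    · exact ⟨n, ⟨e⟩⟩

theorem frameS_of {S : Type u} [Group S] [Finite S] {ι : Type*} {P : Subgroup S} {L : ι → Subgroup S} {z : ι → S}
    (h : FrameD P L z) : FrameS P L (fun i => P ⊓ L i) z := by
  refine ⟨h.fund, h.syl, fun _ => inf_le_left, fun i => ?_, h.inv⟩
  exact exists_quat (h.syl i).pg (fun t ht hto => (h.fund i).uniq t ht.2 hto) (h.nonab i)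

theorem exists_sylow_le {S : Type*} [Group S] [Finite S] {H : Subgroup S} (h2 : ¬ 2 ∣ H.index) :
    ∃ P : Sylow 2 S, (P : Subgroup S) ≤ H := by
  have := Fact.mk Nat.prime_two
  let P₀ : Sylow 2 H := default
  have h1 : IsPGroup 2 ((P₀ : Subgroup H).map H.subtype) := P₀.isPGroup'.map _
  have h3 : ((P₀ : Subgroup H).map H.subtype).index = (P₀ : Subgroup H).index * H.index := by
    rw [Subgroup.index_map_subtype]
  refine ⟨h1.toSylow ?_, map_subtype_le _⟩
  rw [h3]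
  intro h4
  rcases Nat.prime_two.dvd_mul.mp h4 with h4 | h4
  · exact P₀.not_dvd_index h4
  · exact h2 h4

/-- **`O₂(H) ≠ 1`.** -/
theorem ExcData.two_core_ne {p : ℕ} [Fact p.Prime] (h5 : 5 ≤ p) {S : Type u} [Group S] [Finite S] (hS : ExcData p S)
    {d e : ℕ} (hde : (d = 52 ∧ e = 15) ∨ (d = 78 ∧ e = 17) ∨ (d = 133 ∧ e = 23) ∨ (d = 248 ∧ e = 30))
    {k : Type*} [Field k] [CharP k p] (rho : S →* Matrix.GeneralLinearGroup (Fin d) k) (hinj : Function.Injective rho)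
    (hcard : 2 ^ e ∣ Nat.card S) {H : Subgroup S} (h2 : ¬ 2 ∣ H.index) (hpH : ¬ p ∣ Nat.card H) : pCore 2 H ≠ ⊥ := by
  intro hbot
  have := Fact.mk Nat.prime_two
  obtain ⟨P, hPH⟩ := exists_sylow_le h2
  obtain ⟨ι, hι1, hι2, L, z, hF, hR, hA⟩ := hS P
  have hconn : ∀ 𝒦, Comps H 𝒦 → ∀ K : ι → Subgroup S, (∀ i, K i ∈ 𝒦) → (∀ i, z i ∈ K i) → ∀ i j, K i = K j := by
    intro 𝒦 hC K hK hz
    obtain ⟨K₀, hK₀, hz₀⟩ := hR.same hC fun i => ⟨K i, hK i, hz i⟩
    have h1 : ∀ i, K i = K₀ := by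
      intro i
      by_contra hne
      have h3 := hC.odd_of_mem (hK i) hK₀ hne (hz i) (hz₀ i)
      rw [hR.ord i] at h3
      exact absurd h3 (by decide)
    intro i j
    rw [h1 i, h1 j]
  have hcop := Cfsg.Agent.Lib.Cores.pPrimeCore_coprime (G := H) 2
  have hcardR : Nat.card ((pPrimeCore 2 H).map H.subtype) = Nat.card (pPrimeCore 2 H) :=
    (Nat.card_congr ((pPrimeCore 2 H).equivMapOfInjective _ H.subtype_injective).toEquiv).symm
  have hA' : ∀ i, ∀ x ∈ pPrimeCore 2 H, z i * x = x * z i := by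
    intro i x hx
    refine hA ((pPrimeCore 2 H).map H.subtype) ?_ ?_ ?_ i x ⟨x, hx, rfl⟩
    · rw [hcardR]
      exact Nat.coprime_two_right.mp hcop
    · rw [hcardR]
      exact fun h => hpH (h.trans (Subgroup.card_subgroup_dvd_card _))
    · rintro x hx _ ⟨r, hr, rfl⟩
      exact ⟨_, (Cfsg.Agent.Lib.Cores.pPrimeCore_normal (G := H) 2).conj_mem r hr ⟨x, hPH hx⟩, rfl⟩
  obtain ⟨C, hCn, hCq, hCz, hCc, Y, _, hYe, hYt⟩ := (frameS_of hF).core hF.pg hPH hconn hA' hbot cit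
  refine Cfsg.Agent.H418.NN.no_two_pow hde (k := k) h5 C hCq hCz hpH hYe hYt (rho.comp H.subtype)
    (hinj.comp H.subtype_injective) ?_
  have h3 : 2 ^ e ∣ Nat.card H := by
    have h4 := Subgroup.card_mul_index H
    rw [← h4] at hcard
    exact Nat.Coprime.dvd_of_dvd_mul_right (Nat.Coprime.pow_left _ ((Nat.Prime.coprime_iff_not_dvd Nat.prime_two).mpr h2)) hcard
  have h5 := Subgroup.card_mul_index (centralizer (C : Set H))
  rw [← h5] at h3
  exact Nat.Coprime.dvd_of_dvd_mul_left (Nat.Coprime.pow_left _ (Nat.coprime_two_left.mpr hCc)) h3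

end Cfsg.Agent.H102.RV
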