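import Cfsg.Agent.H102.RV.Comp
import Cfsg.Agent.Lib.GenFitting
import Cfsg.Agent.Lib.PComponents
import Cfsg.Agent.SignalizersComponents.FStarNormal
import Cfsg.Agent.SignalizersComponents.CompBasic

/-!
# Frames of fundamental subgroups (helper102)

`Frame.main`: with a frame `L i` of fundamental subgroups whose involutions satisfy enough relations, a subgroup `H` of odd
index with `F(H) = 1` has exactly one component.
-/

set_option autoImplicit false
set_option linter.style.haveILetI false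

namespace Cfsg.Agent.H102.RV

open Subgroup Cfsg
open scoped commutatorElement

universe u

variable {S : Type u} [Group S]

theorem isNilpotent_of_comm {A : Type*} [Group A] (h : ∀ a b : A, a * b = b * a) : Group.IsNilpotent A := by
  letI : CommGroup A := { (inferInstance : Group A) with mul_comm := h }
  exact CommGroup.isNilpotent

/-! ### the components of a group with trivial Fitting subgroup -/

/-- the components of `H`, as subgroups of `S` -/
def compsOf (H : Subgroup S) : Set (Subgroup S) := {K | ∃ C : Subgroup H, IsComponent C ∧ C.map H.subtype = K}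

theorem fitting_le [Finite S] {H : Subgroup S} (h2 : pCore 2 H = ⊥) : fittingSubgroup H ≤ pPrimeCore 2 H := by
  rw [Cfsg.Agent.Lib.Cores.fittingSubgroup_eq_iSup_pCore]
  refine iSup_le fun r => ?_
  by_cases hr : (r : ℕ) = 2
  · rw [hr, h2]
    exact bot_le
  · haveI : Fact (r : ℕ).Prime := ⟨r.2⟩
    apply Cfsg.Agent.Lib.Cores.le_pPrimeCore (Cfsg.Agent.Lib.Cores.pCore_normal _)
    obtain ⟨n, hn⟩ := IsPGroup.iff_card.mp (Cfsg.Agent.Lib.Cores.pCore_isPGroup (G := H) (r : ℕ))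
    rw [hn]
    exact Nat.Coprime.pow_left _ ((Nat.coprime_primes r.2 Nat.prime_two).mpr hr)

/-- a map `k ↦ [x, k]` into the centre of a perfect subgroup is trivial -/
theorem comm_of_perfect {K : Subgroup S} (hK : ⁅K, K⁆ = K) {x : S}
    (hc : ∀ k ∈ K, ∀ l ∈ K, x * k * x⁻¹ * k⁻¹ * l = l * (x * k * x⁻¹ * k⁻¹)) (hn : ∀ k ∈ K, x * k * x⁻¹ ∈ K) :
    ∀ k ∈ K, x * k = k * x := by
  have hmul : ∀ k ∈ K, ∀ l ∈ K, x * (k * l) * x⁻¹ * (k * l)⁻¹ = (x * k * x⁻¹ * k⁻¹) * (x * l * x⁻¹ * l⁻¹) := by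
    intro k hk l hl
    have h1 := hc l hl k hk
    calc x * (k * l) * x⁻¹ * (k * l)⁻¹ = (x * k * x⁻¹) * (x * l * x⁻¹ * l⁻¹) * k⁻¹ := by group
      _ = (x * k * x⁻¹ * k⁻¹) * (k * (x * l * x⁻¹ * l⁻¹)) * k⁻¹ := by group
      _ = (x * k * x⁻¹ * k⁻¹) * (x * l * x⁻¹ * l⁻¹) := by rw [← h1]; group
  let M : Subgroup S :=
    { carrier := {k | k ∈ K ∧ x * k = k * x}
      mul_mem' := by
        rintro a b ⟨ha, ha'⟩ ⟨hb, hb'⟩
        exact ⟨K.mul_mem ha hb, by rw [← mul_assoc, ha', mul_assoc, hb', mul_assoc]⟩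
      one_mem' := ⟨K.one_mem, by rw [one_mul, mul_one]⟩
      inv_mem' := by
        rintro a ⟨ha, ha'⟩
        refine ⟨K.inv_mem ha, ?_⟩
        have h1 : Commute x a := ha'
        exact h1.inv_right.eq }
  have hle : ⁅K, K⁆ ≤ M := by
    rw [commutator_le]
    intro a ha b hb
    have hab : ⁅a, b⁆ ∈ K := K.mul_mem (K.mul_mem (K.mul_mem ha hb) (K.inv_mem ha)) (K.inv_mem hb)
    refine ⟨hab, ?_⟩
    have e1 := hmul a ha b hb
    have e2 := hmul b hb a ha
    have hcc : (x * a * x⁻¹ * a⁻¹) * (x * b * x⁻¹ * b⁻¹) = (x * b * x⁻¹ * b⁻¹) * (x * a * x⁻¹ * a⁻¹) := by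
      have h3 : x * b * x⁻¹ * b⁻¹ ∈ K := K.mul_mem (hn b hb) (K.inv_mem hb)
      exact hc a ha _ h3
    rw [← e1, ← e2] at hcc
    -- `[x, ab] = [x, ba]`, `ab = [a,b] ba`
    have e3 := hmul ⁅a, b⁆ hab (b * a) (K.mul_mem hb ha)
    have e4 : ⁅a, b⁆ * (b * a) = a * b := by rw [commutatorElement_def]; group
    rw [e4, hcc] at e3
    have e5 : x * ⁅a, b⁆ * x⁻¹ * ⁅a, b⁆⁻¹ = 1 := by
      exact (mul_eq_right.mp e3.symm)
    rw [mul_inv_eq_one, mul_inv_eq_iff_eq_mul] at e5
    exact e5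
  intro k hk
  rw [← hK] at hk
  exact (hle hk).2

theorem Comps.of [Finite S] {H : Subgroup S} (h2 : pCore 2 H = ⊥)
    (hE : ∀ C : Subgroup H, IsComponent C → 2 ∣ Nat.card C) : Comps H (compsOf H) := by
  refine ⟨?_, ?_, ?_, ?_, ?_, ?_, ?_⟩
  · rintro _ ⟨C, -, rfl⟩
    exact map_subtype_le C
  · rintro _ ⟨C, hC, rfl⟩ h hh
    refine ⟨C.map (MulAut.conj (⟨h, hh⟩ : H)).toMonoidHom, Cfsg.Agent.SignalizersComponents.Components.isComponent_conj _ hC, ?_⟩
    ext x
    constructor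
    · rintro ⟨_, ⟨c, hc, rfl⟩, rfl⟩
      exact ⟨c, ⟨c, hc, rfl⟩, rfl⟩
    · rintro ⟨_, ⟨c, hc, rfl⟩, rfl⟩
      exact ⟨_, ⟨c, hc, rfl⟩, rfl⟩
  · rintro _ ⟨C, hC, rfl⟩ N hN hn hodd n hnN k hk
    -- `N` as a subgroup of `C`
    let N₁ : Subgroup C := (N.subgroupOf H).subgroupOf C
    have hN₁ : N₁.Normal := by
      refine ⟨fun n hnn g => ?_⟩
      have h1 : ((n : H) : S) ∈ N := hnn
      show (((g * n * g⁻¹ : C) : H) : S) ∈ N
      exact hn _ ⟨g, g.2, rfl⟩ _ h1
    rcases Cfsg.Agent.SignalizersComponents.Components.quasisimple_normal hC.2 N₁ hN₁ with h | h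
    · exfalso
      have h1 : C.map H.subtype ≤ N := by
        rintro _ ⟨c, hc, rfl⟩
        have h1 : (⟨c, hc⟩ : C) ∈ N₁ := by rw [h]; exact mem_top _
        exact h1
      have h3 : 2 ∣ Nat.card (C.map H.subtype) := by
        rw [← Nat.card_congr (C.equivMapOfInjective H.subtype H.subtype_injective).toEquiv]
        exact hE C hC
      exact (Nat.not_even_iff_odd.mpr hodd) (even_iff_two_dvd.mpr (h3.trans (Subgroup.card_dvd_of_le h1)))
    · obtain ⟨c, hc, rfl⟩ := hN hnN
      obtain ⟨d, hd, rfl⟩ := hk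
      have h1 : (⟨c, hc⟩ : C) ∈ N₁ := hnN
      have h3 := mem_center_iff.mp (h h1) ⟨d, hd⟩
      exact (congrArg (fun y : C => ((y : H) : S)) h3).symm
  · rintro _ ⟨C, hC, rfl⟩ x ⟨c, hc, rfl⟩ hx
    have h1 : (⟨c, hc⟩ : C) ∈ center C := by
      rw [mem_center_iff]
      intro d
      have h2 := hx (d : H) ⟨d, d.2, rfl⟩
      apply Subtype.ext
      apply Subtype.ext
      exact h2.symm
    have hoc : orderOf (H.subtype c) = orderOf (⟨c, hc⟩ : C) := by
      rw [← Subgroup.orderOf_coe (⟨c, hc⟩ : C)]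
      exact Subgroup.orderOf_coe c
    rw [hoc]
    by_contra hodd
    rw [Nat.not_odd_iff_even, even_iff_two_dvd] at hodd
    obtain ⟨m, hm⟩ := hodd
    have hpos : 0 < orderOf (⟨c, hc⟩ : C) := orderOf_pos _
    have hm0 : m ≠ 0 := by rintro rfl; omega
    obtain ⟨t, ht⟩ : ∃ t : C, t = (⟨c, hc⟩ : C) ^ m := ⟨_, rfl⟩
    have hto : orderOf t = 2 := by
      rw [ht, orderOf_pow_of_dvd hm0 (by rw [hm]; exact Dvd.intro_left _ rfl), hm]
      exact Nat.mul_div_cancel _ (Nat.pos_of_ne_zero hm0)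
    have htc : t ∈ center C := ht ▸ Subgroup.pow_mem _ h1 m
    have hTn : (zpowers t).Normal := by
      refine ⟨fun n hn g => ?_⟩
      have h4 : n ∈ center C := (zpowers_le.mpr htc) hn
      have h5 : g * n * g⁻¹ = n := by rw [mem_center_iff.mp h4 g]; group
      rwa [h5]
    have hsub : ((zpowers t).map C.subtype).IsSubnormal := (Normal.isSubnormal hTn).trans' hC.1
    have hT2 : IsPGroup 2 ((zpowers t).map C.subtype) := by
      apply IsPGroup.map
      rw [IsPGroup.iff_card]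
      exact ⟨1, by rw [Nat.card_zpowers, hto, pow_one]⟩
    have h6 := Cfsg.Agent.SignalizersComponents.CompBasic.subnormal_pGroup_le_pCore hsub hT2
    rw [h2, le_bot_iff, Subgroup.map_eq_bot_iff_of_injective _ C.subtype_injective, zpowers_eq_bot] at h6
    rw [h6, orderOf_one] at hto
    omega
  · rintro _ ⟨C, hC, rfl⟩ x hn hc
    apply comm_of_perfect _ hc hn
    have h3 := (Cfsg.Agent.SignalizersComponents.Components.quasisimple_isPerfect hC.2)
    have h4 : ⁅(⊤ : Subgroup C), ⊤⁆ = ⊤ := h3.commutator_eq_top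
    have h5 : ⁅C, C⁆ = C := by
      have := congrArg (fun X : Subgroup C => X.map C.subtype) h4
      simp only [Subgroup.map_commutator] at this
      rwa [← MonoidHom.range_eq_map, range_subtype] at this
    rw [← map_commutator, h5]
  · rintro _ ⟨C, hC, rfl⟩
    rw [← Nat.card_congr (C.equivMapOfInjective H.subtype H.subtype_injective).toEquiv]
    exact hE C hC
  · rintro _ ⟨C, hC, rfl⟩ _ ⟨C', hC', rfl⟩ hne _ ⟨a, ha, rfl⟩ _ ⟨b, hb, rfl⟩
    have h1 : C ≠ C' := by
      rintro rfl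
      exact hne rfl
    have h2 := Cfsg.Agent.SignalizersComponents.Components.component_commutator_eq_bot_of_ne hC hC' h1
    rw [commutator_eq_bot_iff_le_centralizer] at h2
    have h3 := mem_centralizer_iff.mp (h2 ha) b hb
    exact (congrArg Subtype.val h3).symm

/-- an involution which centralises `O(H)` acts nontrivially on some component -/
theorem exists_act [Finite S] {H : Subgroup S} (h2 : pCore 2 H = ⊥) {t : S} (htH : t ∈ H) (ht : orderOf t = 2)
    (hO : ∀ x ∈ pPrimeCore 2 H, t * x = x * t) : ∃ K ∈ compsOf H, ∃ k ∈ K, t * k ≠ k * t := by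
  by_contra hcon
  push Not at hcon
  have hle : ∀ x ∈ generalizedFittingSubgroup H, x * (⟨t, htH⟩ : H) = ⟨t, htH⟩ * x := by
    have h1 : generalizedFittingSubgroup H ≤ centralizer {(⟨t, htH⟩ : H)} := by
      rw [Cfsg.Agent.Lib.GenFitting.genFitting_def]
      refine sup_le ?_ ?_
      · rw [Cfsg.Agent.SignalizersComponents.Components.layer_le_iff]
        intro C hC c hc
        rw [mem_centralizer_singleton_iff]
        apply Subtype.ext
        exact (hcon _ ⟨C, hC, rfl⟩ c ⟨c, hc, rfl⟩).symm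
      · intro x hx
        rw [mem_centralizer_singleton_iff]
        apply Subtype.ext
        exact (hO x (fitting_le h2 hx)).symm
    intro x hx
    exact mem_centralizer_singleton_iff.mp (h1 hx)
  have h1 : (⟨t, htH⟩ : H) ∈ centralizer (generalizedFittingSubgroup H : Set H) := mem_centralizer_iff.mpr hle
  have h3 := Cfsg.Agent.Lib.GenFitting.centralizer_genFitting_le h1
  have h4 : (generalizedFittingSubgroup H ⊓ centralizer (generalizedFittingSubgroup H : Set H)) ≤ fittingSubgroup H := by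
    haveI := Cfsg.Agent.Lib.GenFitting.genFitting_normal (G := H)
    apply Cfsg.Agent.SignalizersComponents.FStarNormal.le_fitting inferInstance
    apply isNilpotent_of_comm
    intro a b
    apply Subtype.ext
    exact mem_centralizer_iff.mp b.2.2 a a.2.1
  have h5 : (⟨t, htH⟩ : H) ∈ pPrimeCore 2 H := fitting_le h2 (h4 ⟨h3, h1⟩)
  have h6 := Cfsg.Agent.Lib.Cores.pPrimeCore_coprime (G := H) 2
  have h7 : orderOf (⟨t, htH⟩ : H) ∣ Nat.card (pPrimeCore 2 H) := by
    rw [← Subgroup.orderOf_mk _ h5]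
    exact orderOf_dvd_natCard _
  have h8 : orderOf (⟨t, htH⟩ : H) = 2 := by rw [← Subgroup.orderOf_coe]; exact ht
  rw [h8] at h7
  rw [Nat.coprime_comm, Nat.Prime.coprime_iff_not_dvd Nat.prime_two] at h6
  exact h6 h7

/-! ### frames -/

/-- the data of a frame inside a `2`-subgroup `P ≤ H` -/
structure FrameIn {ι : Type*} (H P : Subgroup S) (L Q : ι → Subgroup S) (z : ι → S) : Prop where
  fund : ∀ i, Fund (L i) (z i)
  syl : ∀ i, IsSyl (Q i) (L i)
  pg : IsPGroup 2 P
  le : P ≤ H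
  leP : ∀ i, Q i ≤ P
  sq : ∀ i, ∃ y ∈ Q i, y * y = z i
  nonab : ∀ i, ∃ a ∈ Q i, ∃ b ∈ Q i, a * b ≠ b * a

variable {ι : Type*} {H P : Subgroup S} {L Q : ι → Subgroup S} {z : ι → S} {𝒦 : Set (Subgroup S)}

theorem FrameIn.mem (hf : FrameIn H P L Q z) (i : ι) : z i ∈ H := by
  obtain ⟨y, hy, hyz⟩ := hf.sq i
  rw [← hyz]
  exact hf.le (P.mul_mem (hf.leP i hy) (hf.leP i hy))

/-- every `z i` lies in a component -/
theorem FrameIn.exists_comp [Finite S] (hf : FrameIn H P L Q z) (hC : Comps H 𝒦) (i : ι)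
    (hact : ∃ K ∈ 𝒦, ∃ k ∈ K, z i * k ≠ k * z i) : ∃ K ∈ 𝒦, z i ∈ K := by
  obtain ⟨K, hK, h2⟩ := hact
  obtain ⟨y, hy, hyz⟩ := hf.sq i
  obtain ⟨a, ha, b, hb, hab⟩ := hf.nonab i
  exact ⟨K, hK, comp (hf.fund i) (hf.syl i) ((hf.leP i).trans hf.le) hy hyz ha hb hab hC hK h2⟩

/-- If all `z i` lie in the component `K` and the involutions of `C_H(L i : i)` lie in `⟨z i⟩`, then `C_H(K)` has odd
order. -/
theorem FrameIn.odd_cent [Finite S] (hf : FrameIn H P L Q z) (hC : Comps H 𝒦) {K : Subgroup S} (hK : K ∈ 𝒦)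
    (hz : ∀ i, z i ∈ K)
    (hinv : ∀ t ∈ H, orderOf t = 2 → (∀ i, ∀ l ∈ L i, t * l = l * t) → t ∈ closure (Set.range z)) :
    Odd (Nat.card (H ⊓ centralizer (K : Set S) : Subgroup S)) := by
  rw [← Nat.not_even_iff_odd, even_iff_two_dvd]
  intro hReven
  -- `R = C_H(K)`
  let R : Subgroup S := H ⊓ centralizer (K : Set S)
  have hR : ∀ x, x ∈ R ↔ x ∈ H ∧ ∀ k ∈ K, x * k = k * x := by
    intro x
    show x ∈ H ⊓ centralizer (K : Set S) ↔ _
    rw [mem_inf, mem_centralizer_iff]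
    exact ⟨fun h => ⟨h.1, fun k hk => (h.2 k hk).symm⟩, fun h => ⟨h.1, fun k hk => (h.2 k hk).symm⟩⟩
  -- `Q i` normalises `K`
  have hQK : ∀ i, ∀ j ∈ L i, j ∈ H → ∀ k ∈ K, j * k * j⁻¹ ∈ K := by
    intro i j hj hjH k hk
    have h1 : K.map (MulAut.conj j).toMonoidHom = K := by
      by_contra h2
      have h3 : z i ∈ K.map (MulAut.conj j).toMonoidHom := by
        have h4 : j * z i * j⁻¹ = z i := by
          rw [(hf.fund i).comm hj]; group
        rw [← h4]
        exact conj_mem_map j (hz i)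
      have h5 := hC.odd_of_mem hK (hC.conj K hK j hjH) (fun h => h2 h.symm) (hz i) h3
      rw [(hf.fund i).ord] at h5
      exact absurd h5 (by decide)
    exact conj_mem_of_map_eq h1 hk
  have hQR : ∀ i, ∀ q ∈ Q i, ∀ r ∈ R, q * r * q⁻¹ ∈ R := by
    intro i q hq r hr
    have hqH : q ∈ H := hf.le (hf.leP i hq)
    rw [hR] at hr ⊢
    refine ⟨H.mul_mem (H.mul_mem hqH hr.1) (H.inv_mem hqH), fun k hk => ?_⟩
    have h1 := hQK i q⁻¹ ((L i).inv_mem ((hf.syl i).le hq)) (H.inv_mem hqH) k hk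
    rw [inv_inv] at h1
    have h2 := hr.2 _ h1
    calc q * r * q⁻¹ * k = q * (r * (q⁻¹ * k * q)) * q⁻¹ := by group
      _ = k * (q * r * q⁻¹) := by rw [h2]; group
  let QQ : Subgroup S := ⨆ i, Q i
  have hQQP : QQ ≤ P := iSup_le hf.leP
  have hQQ2 : IsPGroup 2 QQ := hf.pg.to_le hQQP
  have hQQR : ∀ q ∈ QQ, ∀ r ∈ R, q * r * q⁻¹ ∈ R := by
    have h1 : QQ ≤ normalizer (R : Set S) := iSup_le fun i => le_normalizer_of (hQR i)
    intro q hq r hr
    exact (mem_normalizer_iff.mp (h1 hq) r).mp hr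
  obtain ⟨T, hT, hQT⟩ := exists_isSyl (R ⊔ QQ) QQ le_sup_right hQQ2
  have hMR : ∀ g ∈ R ⊔ QQ, ∀ k ∈ R, g * k * g⁻¹ ∈ R := by
    have h1 : R ⊔ QQ ≤ normalizer (R : Set S) := sup_le le_normalizer (le_normalizer_of hQQR)
    intro g hg k hk
    exact (mem_normalizer_iff.mp (h1 hg) k).mp hk
  have hTR : IsSyl (T ⊓ R) R := hT.inter le_sup_left hMR
  have h2TR : 2 ∣ Nat.card (T ⊓ R : Subgroup S) := by
    by_contra h1
    apply hTR.idx
    have hReven' : 2 ∣ Nat.card R := hReven
    have h2 : Nat.card (T ⊓ R : Subgroup S) * (T ⊓ R).relIndex R = Nat.card R := by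
      have h3 := Subgroup.relIndex_mul_relIndex ⊥ (T ⊓ R) R bot_le hTR.le
      rwa [relIndex_bot_left, relIndex_bot_left] at h3
    rw [← h2] at hReven'
    exact (Nat.prime_two.dvd_mul.mp hReven').resolve_left h1
  obtain ⟨t, ht, hto⟩ := exists_involution h2TR
  have htR := (hR t).mp ht.2
  have htz : ∀ i, t ≠ z i := by
    intro i h1
    apply hC.not_cent hK (hz i) (hf.fund i).ord
    intro k hk
    rw [← h1]
    exact htR.2 k hk
  have hodd : ∀ i, Odd (Nat.card (R ⊓ L i : Subgroup S)) := by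
    intro i
    apply odd_of_no_involution
    intro x hx hxo
    have h1 := (hf.fund i).uniq x hx.2 hxo
    apply hC.not_cent hK (hz i) (hf.fund i).ord
    intro k hk
    rw [← h1]
    exact ((hR x).mp hx.1).2 k hk
  have htQ : ∀ i, ∀ q ∈ Q i, t * q = q * t := by
    intro i q hq
    have hqT : q ∈ T := hQT (mem_iSup_of_mem i hq)
    have h1 : t * q * t⁻¹ * q⁻¹ = 1 := by
      apply eq_one_of_odd (hodd i) hT.pg
      · refine ⟨?_, (L i).mul_mem ((hf.fund i).cent t (htR.2 _ (hz i)) q ((hf.syl i).le hq))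
          ((L i).inv_mem ((hf.syl i).le hq))⟩
        have h3 : t * q * t⁻¹ * q⁻¹ = t * (q * t⁻¹ * q⁻¹) := by group
        rw [h3]
        exact R.mul_mem ht.2 (hQR i q hq _ (R.inv_mem ht.2))
      · exact T.mul_mem (T.mul_mem (T.mul_mem ht.1 hqT) (T.inv_mem ht.1)) (T.inv_mem hqT)
    rwa [mul_inv_eq_one, mul_inv_eq_iff_eq_mul] at h1
  have htL : ∀ i, ∀ l ∈ L i, t * l = l * t := by
    intro i
    obtain ⟨y, hy, hyz⟩ := hf.sq i
    have hzQ : z i ∈ Q i := hyz ▸ (Q i).mul_mem hy hy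
    exact (hf.fund i).fact (hf.syl i) hto (htz i) (htQ i) hzQ
  have h1 := hinv t htR.1 hto htL
  have h2 : t ∈ K := by
    have h3 : closure (Set.range z) ≤ K := by
      rw [closure_le]
      rintro _ ⟨i, rfl⟩
      exact hz i
    exact h3 h1
  exact hC.not_cent hK h2 hto htR.2

/-- `K` is the only component -/
theorem Comps.unique [Finite S] (hC : Comps H 𝒦) {K : Subgroup S} (hK : K ∈ 𝒦)
    (hodd : Odd (Nat.card (H ⊓ centralizer (K : Set S) : Subgroup S))) : ∀ K' ∈ 𝒦, K' = K := by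
  intro K' hK'
  by_contra hne
  have hK'R : K' ≤ H ⊓ centralizer (K : Set S) := by
    intro x hx
    refine ⟨hC.le K' hK' hx, ?_⟩
    show x ∈ centralizer (K : Set S)
    rw [mem_centralizer_iff]
    intro k hk
    exact (hC.comm K' hK' K hK hne x hx k hk).symm
  exact (Nat.not_even_iff_odd.mpr hodd) (even_iff_two_dvd.mpr ((hC.even K' hK').trans (Subgroup.card_dvd_of_le hK'R)))

/-! ### relations -/

/-- Three involutions with product `1` which lie in components lie in the same component. -/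
theorem same_three (hC : Comps H 𝒦) {a b c : S} {A B C : Subgroup S} (hA : A ∈ 𝒦) (hB : B ∈ 𝒦) (hCC : C ∈ 𝒦)
    (ha : a ∈ A) (hb : b ∈ B) (hc : c ∈ C) (ha1 : orderOf a = 2) (hb1 : orderOf b = 2) (hc1 : orderOf c = 2)
    (h : a * b * c = 1) : A = B ∧ A = C := by
  by_cases hAB : A = B
  · refine ⟨hAB, ?_⟩
    by_contra hAC
    have h1 : c = (a * b)⁻¹ := eq_inv_of_mul_eq_one_right h
    have h2 := hC.odd_of_mem hA hCC hAC (h1 ▸ A.inv_mem (A.mul_mem ha (hAB ▸ hb))) hc
    rw [hc1] at h2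
    exact absurd h2 (by decide)
  · exfalso
    by_cases hAC : A = C
    · have h1 : b = a⁻¹ * c⁻¹ := by
        have : b = a⁻¹ * (a * b * c) * c⁻¹ := by group
        rw [this, h]; group
      have h2 := hC.odd_of_mem hA hB hAB (h1 ▸ A.mul_mem (A.inv_mem ha) (A.inv_mem (hAC ▸ hc))) hb
      rw [hb1] at h2
      exact absurd h2 (by decide)
    · -- `a = (b c)⁻¹` commutes with `A`
      apply hC.not_cent hA ha ha1
      intro k hk
      have h1 : a = (b * c)⁻¹ := by
        rw [eq_inv_iff_mul_eq_one, ← mul_assoc]; exact h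
      have h2 : Commute (b * c) k := by
        have h3 : Commute b k := (hC.comm A hA B hB hAB k hk b hb).symm
        have h4 : Commute c k := (hC.comm A hA C hCC hAC k hk c hc).symm
        exact h3.mul_left h4
      rw [h1]
      exact h2.inv_left.eq

/-- Four commuting involutions with product `1`, pairwise distinct, which lie in components, lie in the same component. -/
theorem same_four (hC : Comps H 𝒦) {a b c d : S} {A B C D : Subgroup S} (hA : A ∈ 𝒦) (hB : B ∈ 𝒦) (hCC : C ∈ 𝒦)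
    (hD : D ∈ 𝒦) (ha : a ∈ A) (hb : b ∈ B) (hc : c ∈ C) (hd : d ∈ D) (ha1 : orderOf a = 2) (hb1 : orderOf b = 2)
    (hc1 : orderOf c = 2) (hd1 : orderOf d = 2) (hab : a ≠ b) (hac : a ≠ c) (had : a ≠ d) (cab : a * b = b * a)
    (cac : a * c = c * a) (cad : a * d = d * a) (hcb : c * b = b * c) (hdb : d * b = b * d)
    (hdc : d * c = c * d) (h : a * b * c * d = 1) : A = B ∧ A = C ∧ A = D := by
  have hsq : ∀ {x y : S}, orderOf x = 2 → orderOf y = 2 → x * y = y * x → (x * y) * (x * y) = 1 := by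
    intro x y hx hy hxy
    calc (x * y) * (x * y) = x * (y * x) * y := by group
      _ = (x * x) * (y * y) := by rw [← hxy]; group
      _ = 1 := by rw [sq_of_orderOf hx, sq_of_orderOf hy, one_mul]
  have hne1 : ∀ {x y : S}, orderOf y = 2 → x ≠ y → x * y ≠ 1 := by
    intro x y hy hxy h1
    apply hxy
    rw [mul_eq_one_iff_eq_inv, inv_eq_of_mul_eq_one_left (sq_of_orderOf hy)] at h1
    exact h1
  have key : ∀ {x y : S} {X Y : Subgroup S}, X ∈ 𝒦 → Y ∈ 𝒦 → A ≠ X → A ≠ Y → x ∈ X → y ∈ Y → ∀ w ∈ A,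
      w * w = 1 → w * (x * y) = 1 → w = 1 := by
    intro x y X Y hX hY hAX hAY hx hy w hw hww hw1
    apply eq_one_of_odd_of_sq _ hww
    apply hC.oddZ A hA w hw
    intro k hk
    have h1 : w = (x * y)⁻¹ := eq_inv_of_mul_eq_one_left hw1
    have h3 : Commute x k := (hC.comm A hA X hX hAX k hk x hx).symm
    have h4 : Commute y k := (hC.comm A hA Y hY hAY k hk y hy).symm
    rw [h1]
    exact (h3.mul_left h4).inv_left.eq
  by_cases hAB : A = B
  · by_cases hAC : A = C
    · refine ⟨hAB, hAC, ?_⟩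
      by_contra hAD
      have h1 : d = (a * b * c)⁻¹ := eq_inv_of_mul_eq_one_right h
      have h2 := hC.odd_of_mem hA hD hAD
        (h1 ▸ A.inv_mem (A.mul_mem (A.mul_mem ha (hAB ▸ hb)) (hAC ▸ hc))) hd
      rw [hd1] at h2
      exact absurd h2 (by decide)
    · exfalso
      by_cases hAD : A = D
      · have h1 : c = (a * b)⁻¹ * d⁻¹ := by
          have : c = (a * b)⁻¹ * (a * b * c * d) * d⁻¹ := by group
          rw [this, h]; group
        have h2 := hC.odd_of_mem hA hCC hAC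
          (h1 ▸ A.mul_mem (A.inv_mem (A.mul_mem ha (hAB ▸ hb))) (A.inv_mem (hAD ▸ hd))) hc
        rw [hc1] at h2
        exact absurd h2 (by decide)
      · exact hne1 hb1 hab (key hCC hD hAC hAD hc hd _ (A.mul_mem ha (hAB ▸ hb)) (hsq ha1 hb1 cab) (by rw [← h]; group))
  · exfalso
    by_cases hAC : A = C
    · by_cases hAD : A = D
      · have h1 : b = a⁻¹ * (c * d)⁻¹ := by
          have : b = a⁻¹ * (a * b * c * d) * (c * d)⁻¹ := by group
          rw [this, h]; group
        have h2 := hC.odd_of_mem hA hB hAB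
          (h1 ▸ A.mul_mem (A.inv_mem ha) (A.inv_mem (A.mul_mem (hAC ▸ hc) (hAD ▸ hd)))) hb
        rw [hb1] at h2
        exact absurd h2 (by decide)
      · refine hne1 hc1 hac (key hB hD hAB hAD hb hd _ (A.mul_mem ha (hAC ▸ hc)) (hsq ha1 hc1 cac) ?_)
        rw [← h]
        calc a * c * (b * d) = a * (c * b) * d := by group
          _ = a * b * c * d := by rw [hcb]; group
    · by_cases hAD : A = D
      · refine hne1 hd1 had (key hB hCC hAB hAC hb hc _ (A.mul_mem ha (hAD ▸ hd)) (hsq ha1 hd1 cad) ?_)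
        rw [← h]
        calc a * d * (b * c) = a * (d * b) * c := by group
          _ = a * b * (d * c) := by rw [hdb]; group
          _ = a * b * c * d := by rw [hdc]; group
      · -- all others outside `A`
        apply hC.not_cent hA ha ha1
        intro k hk
        have h1 : a = (b * c * d)⁻¹ := by
          rw [eq_inv_iff_mul_eq_one, ← h]; group
        have h3 : Commute b k := (hC.comm A hA B hB hAB k hk b hb).symm
        have h4 : Commute c k := (hC.comm A hA C hCC hAC k hk c hc).symm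
        have h5 : Commute d k := (hC.comm A hA D hD hAD k hk d hd).symm
        rw [h1]
        exact ((h3.mul_left h4).mul_left h5).inv_left.eq

end Cfsg.Agent.H102.RV
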