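import Cfsg.Agent.H102.RV.End
import Cfsg.Agent.S0205

/-!
# Subgroups of odd index with `O₂(H) = 1` in a group with a frame (helper102)
-/

set_option autoImplicit false
set_option linter.style.haveILetI false

namespace Cfsg.Agent.H102.RV

open Subgroup Cfsg
open scoped commutatorElement

universe u

/-- a frame inside the `2`-group `P` -/
structure FrameS {ι : Type*} {S : Type u} [Group S] (P : Subgroup S) (L Q : ι → Subgroup S) (z : ι → S) : Prop where
  fund : ∀ i, Fund (L i) (z i)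
  syl : ∀ i, IsSyl (Q i) (L i)
  leP : ∀ i, Q i ≤ P
  quat : ∀ i, ∃ n : ℕ, Nonempty (Q i ≃* QuaternionGroup (2 ^ (n + 1)))
  inv : ∀ t : S, orderOf t = 2 → (∀ i, ∀ l ∈ L i, t * l = l * t) → t ∈ closure (Set.range z)

theorem quat_nonab (n : ℕ) : (QuaternionGroup.a (1 : ZMod (2 * 2 ^ (n + 1)))) * QuaternionGroup.xa 0 ≠
    QuaternionGroup.xa 0 * QuaternionGroup.a 1 := by
  rw [QuaternionGroup.a_mul_xa, QuaternionGroup.xa_mul_a]
  intro h
  have h1 : (0 : ZMod (2 * 2 ^ (n + 1))) - 1 = 0 + 1 := by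
    injection h
  have h2 : ((2 : ℕ) : ZMod (2 * 2 ^ (n + 1))) = 0 := by
    push_cast
    linear_combination -h1
  rw [ZMod.natCast_eq_zero_iff] at h2
  have h3 := Nat.le_of_dvd (by norm_num) h2
  have h4 : 2 ≤ 2 ^ (n + 1) := by
    calc 2 = 2 ^ 1 := by norm_num
      _ ≤ 2 ^ (n + 1) := Nat.pow_le_pow_right (by norm_num) (by omega)
  omega

theorem quat_sq (n : ℕ) : ∃ y : QuaternionGroup (2 ^ (n + 1)), y * y ≠ 1 ∧ y * y * (y * y) = 1 := by
  refine ⟨QuaternionGroup.xa 0, ?_, ?_⟩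
  · rw [QuaternionGroup.xa_mul_xa, QuaternionGroup.one_def]
    intro h
    have h1 : ((2 ^ (n + 1) : ℕ) : ZMod (2 * 2 ^ (n + 1))) + 0 - 0 = 0 := by
      injection h
    rw [add_zero, sub_zero, ZMod.natCast_eq_zero_iff] at h1
    have h3 := Nat.le_of_dvd (by positivity) h1
    have h4 : 0 < 2 ^ (n + 1) := by positivity
    omega
  · rw [QuaternionGroup.xa_mul_xa, QuaternionGroup.a_mul_a, QuaternionGroup.one_def]
    congr 1
    rw [add_zero, sub_zero, ← Nat.cast_add, ZMod.natCast_eq_zero_iff, ← two_mul]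

variable {ι : Type*} {S : Type u} [Group S] {H P : Subgroup S} {L Q : ι → Subgroup S} {z : ι → S}

theorem FrameS.frameIn (hF : FrameS P L Q z) (hP : IsPGroup 2 P) (hPH : P ≤ H) : FrameIn H P L Q z := by
  refine ⟨hF.fund, hF.syl, hP, hPH, hF.leP, ?_, ?_⟩
  · intro i
    obtain ⟨n, ⟨e⟩⟩ := hF.quat i
    obtain ⟨y, hy1, hy2⟩ := quat_sq n
    refine ⟨e.symm y, (e.symm y).2, ?_⟩
    apply (hF.fund i).uniq
    · exact (L i).mul_mem ((hF.syl i).le (e.symm y).2) ((hF.syl i).le (e.symm y).2)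
    · apply orderOf_eq_two_of_sq
      · have h1 : e.symm y * e.symm y * (e.symm y * e.symm y) = 1 := by
          rw [← map_mul, ← map_mul, hy2, map_one]
        exact congrArg Subtype.val h1
      · intro h1
        apply hy1
        have h2 : e.symm y * e.symm y = 1 := Subtype.ext h1
        rw [← map_mul, ← map_one e.symm] at h2
        exact e.symm.injective h2
  · intro i
    obtain ⟨n, ⟨e⟩⟩ := hF.quat i
    refine ⟨e.symm (QuaternionGroup.a 1), (e.symm _).2, e.symm (QuaternionGroup.xa 0), (e.symm _).2, fun h => ?_⟩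
    have h1 : e.symm (QuaternionGroup.a 1) * e.symm (QuaternionGroup.xa 0) =
        e.symm (QuaternionGroup.xa 0) * e.symm (QuaternionGroup.a 1) := Subtype.ext h
    rw [← map_mul, ← map_mul] at h1
    exact quat_nonab n (e.symm.injective h1)

theorem even_of_quasisimple {K : Type*} [Group K] [Finite K] (h : IsQuasisimple K) : 2 ∣ Nat.card K := by
  by_contra h2
  have h3 : Odd (Nat.card K) := Nat.not_even_iff_odd.mp (fun h4 => h2 (even_iff_two_dvd.mp h4))
  exact Cfsg.Agent.SignalizersComponents.Components.quasisimple_not_isSolvable h (Cfsg.Agent.S0205.result h3)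

/-- **`H` is almost simple modulo a group of odd order.** -/
theorem FrameS.core [Finite S] [Nonempty ι] (hF : FrameS P L Q z) (hP : IsPGroup 2 P) (hPH : P ≤ H)
    (hconn : ∀ 𝒦, Comps H 𝒦 → ∀ K : ι → Subgroup S, (∀ i, K i ∈ 𝒦) → (∀ i, z i ∈ K i) → ∀ i j, K i = K j)
    (hA : ∀ i, ∀ x ∈ pPrimeCore 2 H, z i * x = x * z i) (h2 : pCore 2 H = ⊥) (hCit : Cit.{u}) :
    ∃ C : Subgroup H, C.Normal ∧ IsQuasisimple C ∧ Odd (Nat.card (center C)) ∧
      Odd (Nat.card (centralizer (C : Set H))) ∧ ∃ (Y : Type u) (_ : Group Y), Nonempty (Y ≃* ↥C ⧸ center ↥C) ∧ CitType Y := by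
  have hf := hF.frameIn hP hPH
  have hC : Comps H (compsOf H) := Comps.of h2 fun C hC => even_of_quasisimple hC.2
  have hK : ∀ i, ∃ K ∈ compsOf H, z i ∈ K := fun i =>
    hf.exists_comp hC i (exists_act h2 (hf.mem i) (hF.fund i).ord (hA i))
  choose K hKm hzK using hK
  obtain ⟨i₀⟩ := ‹Nonempty ι›
  have hall : ∀ i, z i ∈ K i₀ := fun i => hconn _ hC K hKm hzK i i₀ ▸ hzK i
  have hodd := hf.odd_cent hC (hKm i₀) hall fun t _ h1 h2 => hF.inv t h1 h2
  have huniq := hC.unique (hKm i₀) hodd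
  obtain ⟨C, hCc, hCK⟩ := hKm i₀
  have hmem : ∀ x : H, x ∈ C ↔ (x : S) ∈ K i₀ := by
    intro x
    rw [← hCK]
    constructor
    · intro h; exact ⟨x, h, rfl⟩
    · rintro ⟨y, hy, hyx⟩
      rwa [← H.subtype_injective hyx]
  have hCn : C.Normal := by
    refine ⟨fun n hn g => ?_⟩
    rw [hmem] at hn ⊢
    have h1 := huniq _ (hC.conj (K i₀) ⟨C, hCc, hCK⟩ g g.2)
    exact conj_mem_of_map_eq h1 hn
  -- the centraliser of `C` in `H`
  have hcodd : Odd (Nat.card (centralizer (C : Set H))) := by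
    refine Odd.of_dvd_nat hodd ?_
    have h1 : ((centralizer (C : Set H)).map H.subtype) ≤ H ⊓ centralizer (K i₀ : Set S) := by
      rintro _ ⟨x, hx, rfl⟩
      refine ⟨x.2, ?_⟩
      show (x : S) ∈ centralizer (K i₀ : Set S)
      rw [mem_centralizer_iff]
      intro k hk
      have hk' := hk
      rw [← hCK] at hk'
      obtain ⟨c, hc, rfl⟩ := hk'
      exact congrArg Subtype.val ((mem_centralizer_iff.mp hx) c hc)
    have h2 : Nat.card ((centralizer (C : Set H)).map H.subtype) = Nat.card (centralizer (C : Set H)) :=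
      (Nat.card_congr ((centralizer (C : Set H)).equivMapOfInjective _ H.subtype_injective).toEquiv).symm
    rw [← h2]
    exact Subgroup.card_dvd_of_le h1
  have hzodd : Odd (Nat.card (center C)) := by
    rw [← Nat.not_even_iff_odd, even_iff_two_dvd]
    intro h3
    obtain ⟨x, hx⟩ := exists_prime_orderOf_dvd_card' (G := center C) 2 h3
    have hxo : orderOf (((x : C) : H) : S) = 2 := by
      rw [Subgroup.orderOf_coe, Subgroup.orderOf_coe, Subgroup.orderOf_coe, hx]
    have hxK : (((x : C) : H) : S) ∈ K i₀ := (hmem _).mp (x : C).2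
    refine hC.not_cent ⟨C, hCc, hCK⟩ hxK hxo fun k hk => ?_
    rw [← hCK] at hk
    obtain ⟨c, hc, rfl⟩ := hk
    have h4 := mem_center_iff.mp x.2 ⟨c, hc⟩
    exact (congrArg (fun y : C => ((y : H) : S)) h4).symm
  -- the fundamental subgroup
  let J : Subgroup H := (L i₀).subgroupOf H
  let Q' : Subgroup H := (Q i₀).subgroupOf H
  have hQH : Q i₀ ≤ H := (hF.leP i₀).trans hPH
  have hE : EndData C J Q' ⟨z i₀, hf.mem i₀⟩ := by
    refine ⟨hCc, hCn, hcodd, ?_, ?_, ?_, ?_, ?_, ?_, ?_⟩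
    · rw [← Subgroup.orderOf_coe]; exact (hF.fund i₀).ord
    · rw [hmem]; exact hall i₀
    · exact (hF.fund i₀).mem
    · intro t ht hto
      apply Subtype.ext
      exact (hF.fund i₀).uniq t ht (by rw [Subgroup.orderOf_coe]; exact hto)
    · intro g hg j hj
      exact (hF.fund i₀).cent g (congrArg Subtype.val hg) j hj
    · refine ⟨?_, (hF.syl i₀).pg.comap_of_injective H.subtype H.subtype_injective, ?_⟩
      · intro x hx
        exact (hF.syl i₀).le hx
      · intro h3
        apply (hF.syl i₀).idx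
        have h4 : Q'.relIndex J = (Q i₀).relIndex (L i₀ ⊓ H) := by
          show ((Q i₀).subgroupOf H).relIndex ((L i₀).subgroupOf H) = _
          rw [← Subgroup.relIndex_map_map_of_injective _ _ H.subtype_injective, subgroupOf_map_subtype,
            subgroupOf_map_subtype, inf_eq_left.mpr hQH]
        rw [h4] at h3
        exact h3.trans (Dvd.intro _ (Subgroup.relIndex_mul_relIndex (Q i₀) (L i₀ ⊓ H) (L i₀)
          (le_inf (hF.syl i₀).le hQH) inf_le_left))
    · obtain ⟨n, ⟨e⟩⟩ := hF.quat i₀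
      exact ⟨n, ⟨(Subgroup.subgroupOfEquivOfLe hQH).trans e⟩⟩
  obtain ⟨X, _, _, Y, f, -, -, -, -, -, -, hYe, hYt⟩ := hE.main hCit
  exact ⟨C, hCn, hCc.2, hzodd, hcodd, Y, inferInstance, hYe, hYt⟩

end Cfsg.Agent.H102.RV
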