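import Cfsg.Agent.H102.RV.Rows
import Cfsg.Agent.H808.RV.FEmb

/-!
# The `N`-rows of `F₄`, `E₆`, `²E₆`, `E₇`, `E₈` (helper102)
-/

set_option autoImplicit false

namespace Cfsg.Agent.H102.RV

open Cfsg Cfsg.Lie Cfsg.Agent.H165.RV Cfsg.Agent.H808.RV

universe u

variable {F : Type} [Field F] [Fintype F] {p : ℕ} {S : Type u} [Group S] [Finite S] {π : Set ℕ}

theorem nrow_f4 (hp : p.Prime) [CharP F p] (hS : Nonempty (S ≃* chevF4.group F)) (h2π : 2 ∈ π) (hpπ : p ∉ π) : NRow π S :=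
  nrow_f4_of hp hS (fun h5 => frameA_f4 hp h5 hS) h2π hpπ

theorem nrow_e6 (hp : p.Prime) [CharP F p] (hS : Nonempty (S ≃* chevE6.group F)) (h2π : 2 ∈ π) (hpπ : p ∉ π) : NRow π S :=
  nrow_e6_of hp hS (fun h5 => frameA_e6 hp h5 hS) h2π hpπ

theorem nrow_e7 (hp : p.Prime) [CharP F p] (hS : Nonempty (S ≃* chevE7.group F)) (h2π : 2 ∈ π) (hpπ : p ∉ π) : NRow π S :=
  nrow_e7_of hp hS (fun h5 => frameA_e7 hp h5 hS) h2π hpπ

theorem nrow_e8 (hp : p.Prime) [CharP F p] (hS : Nonempty (S ≃* chevE8.group F)) (h2π : 2 ∈ π) (hpπ : p ∉ π) : NRow π S :=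
  nrow_e8_of hp hS (fun h5 => frameA_e8 hp h5 hS) h2π hpπ

theorem nrow_tw (hp : p.Prime) [CharP F p] {q : ℕ} (hq : IsPrimePow q) (hK : Fintype.card F = q ^ 2)
    (hS : Nonempty (S ≃* twistedE6 F q)) (h2π : 2 ∈ π) (hpπ : p ∉ π) : NRow π S :=
  nrow_tw_of hp hq hK hS (fun h5 => frameA_tw hp h5 hq hK hS) h2π hpπ

end Cfsg.Agent.H102.RV
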