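import Cfsg.Agent.H554.BS.Row6
import Cfsg.Agent.H165.RV.Defs

/-!
# The rows for `3 ∉ π` (helper102)

With helper167's theorem `OneP`: a Hall `π`-subgroup `H` of an exceptional group of type `F₄`, `E₆`, `²E₆`, `E₇`, `E₈`
(`2 ∈ π`, `3, p ∉ π`) has `O₂(H) ≠ 1`.
-/

set_option autoImplicit false
set_option linter.unusedSectionVars false

namespace Cfsg.Agent.H102.RV

open CoxeterSystem Cfsg Cfsg.Lie Cfsg.Lie.ChevalleyDatum
open Cfsg.Agent.ChevalleyStructure Cfsg.Agent.ChevalleyStructure.Elts Cfsg.Agent.ChevalleyStructure.CoxeterGeom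
  Cfsg.Agent.ChevalleyStructure.CoxeterGeomTypes Cfsg.Agent.ChevalleyStructure.NPerm
open Cfsg.Agent.Tits.Roots Cfsg.Agent.Tits.Core Cfsg.Agent.Nodes Cfsg.Agent.Nodes.Reps Cfsg.Agent.Nodes.BNOf
  Cfsg.Agent.Nodes.RGDChev Cfsg.Agent.Nodes.Bruhat Cfsg.Agent.Nodes.NormalForm
open Cfsg.Agent.KFacts.RgdField Cfsg.Agent.KFacts.RgdChevCoord
open Cfsg.Agent.BpExc Cfsg.Agent.BpExc.TorCent Cfsg.Agent.BpExc.TorChev Cfsg.Agent.BpExc.Tow
  Cfsg.Agent.BpExc.TowChev Cfsg.Agent.BpExc.Fr Cfsg.Agent.BpExc.Pair Cfsg.Agent.BpExc.LangFr Cfsg.Agent.GpExc.Field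
  Cfsg.Agent.BpExc.TorAll
open Cfsg.Agent.H469.Exc Cfsg.Agent.H469.Exc.SigFr
open Cfsg.Agent.Nodes.RGDFoldSL
open Cfsg.Agent.ChevalleyStructure.SL2Hom (up lo mem_closure_SL2)
open Cfsg.Agent.H167.EX Cfsg.Agent.H795.LangT Cfsg.Agent.H129.TorusChar Cfsg.Agent.H129.TorusUntw
open Cfsg.Agent.H553.ExtRed Cfsg.Agent.H988.CPi Cfsg.Agent.H795.Core Cfsg.Agent.H720.TwFr Cfsg.Agent.H554.BS
open scoped commutatorElement Pointwise

universe u v w

/-- `O₂(H) ≠ 1` for subgroups `H` of odd index and order prime to `3 p`. -/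
theorem two_core_ne {G : Type u} [Group G] [Finite G] {Γ : Type v} [Group Γ] {p : ℕ} {T : Subgroup Γ}
    (hTab : ∀ x ∈ T, ∀ y ∈ T, x * y = y * x) {X : Set Γ}
    (hXT : ∀ x ∈ X, x ∈ T) (hX4 : ∀ x ∈ X, x ^ 4 = 1) (hOne : OneP p X T) (f : G →* Γ) (hf : Function.Injective f)
    (z : Γ) (hXf : ∀ x ∈ X, ∃ a, f a = z * x * z⁻¹) {x0 : Γ} (hx0 : x0 ∈ X) (hx1 : x0 ≠ 1) {H : Subgroup G}
    (h2 : ¬ 2 ∣ H.index) (h3 : ¬ 3 ∣ Nat.card H) (hpH : ¬ p ∣ Nat.card H) : pCore 2 H ≠ ⊥ := by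
  have hmz : ∀ a : G, f a ∈ MulAut.conj z • T ↔ z⁻¹ * f a * z ∈ T := fun a => mem_cs
  -- the toral 2-group
  let A₁ : Subgroup G :=
    { carrier := {a | z⁻¹ * f a * z ∈ T ∧ a ^ 4 = 1}
      one_mem' := ⟨by rw [map_one, mul_one, inv_mul_cancel]; exact one_mem _, one_pow _⟩
      mul_mem' := by
        rintro a b ⟨ha, ha4⟩ ⟨hb, hb4⟩
        have hab : Commute a b := by
          have h1 := hTab _ ha _ hb
          apply hf
          rw [map_mul, map_mul]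
          calc f a * f b = z * ((z⁻¹ * f a * z) * (z⁻¹ * f b * z)) * z⁻¹ := by group
            _ = z * ((z⁻¹ * f b * z) * (z⁻¹ * f a * z)) * z⁻¹ := by rw [h1]
            _ = f b * f a := by group
        refine ⟨?_, by rw [hab.mul_pow, ha4, hb4, one_mul]⟩
        have e : z⁻¹ * f (a * b) * z = (z⁻¹ * f a * z) * (z⁻¹ * f b * z) := by rw [map_mul]; group
        rw [e]
        exact mul_mem ha hb
      inv_mem' := by
        rintro a ⟨ha, ha4⟩
        refine ⟨?_, by rw [inv_pow, ha4, inv_one]⟩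
        have e : z⁻¹ * f a⁻¹ * z = (z⁻¹ * f a * z)⁻¹ := by rw [map_inv]; group
        rw [e]
        exact inv_mem ha }
  have hA2 : IsPGroup 2 A₁ := fun a => ⟨2, Subtype.ext a.2.2⟩
  have := Fact.mk Nat.prime_two
  obtain ⟨g, hg⟩ := exists_conj_le (K := H) h2 hA2
  set H₁ : Subgroup G := MulAut.conj g⁻¹ • H with hH₁
  have hAH : A₁ ≤ H₁ := by
    intro a ha
    rw [hH₁, mem_cs, inv_inv]
    exact hg a ha
  let eH : ↥H ≃* ↥H₁ := Subgroup.equivSMul (MulAut.conj g⁻¹) H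
  have hcardH₁ : Nat.card H₁ = Nat.card H := (Nat.card_congr eH.toEquiv).symm
  -- the conjugated embedding
  let F : G →* Γ := (MulAut.conj z⁻¹).toMonoidHom.comp f
  have hFa : ∀ a, F a = z⁻¹ * f a * z := fun a => by
    show z⁻¹ * f a * z⁻¹⁻¹ = _
    rw [inv_inv]
  have hF : Function.Injective F := (MulAut.conj z⁻¹).injective.comp hf
  set K : Subgroup Γ := H₁.map F with hK
  have hKfin : Finite K := by
    have : Finite (H₁ : Set G) := Set.toFinite _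
    exact Set.Finite.to_subtype (Set.Finite.image F (Set.toFinite (H₁ : Set G)))
  let eK : ↥H₁ ≃* ↥K := H₁.equivMapOfInjective F hF
  have hcardK : Nat.card K = Nat.card H₁ := (Nat.card_congr eK.toEquiv).symm
  have hK3 : ¬ 3 ∣ Nat.card K := by rw [hcardK, hcardH₁]; exact h3
  have hKp : ¬ p ∣ Nat.card K := by rw [hcardK, hcardH₁]; exact hpH
  have hXK : X ⊆ K := by
    intro x hx
    obtain ⟨a, ha⟩ := hXf x hx
    have h1 : z⁻¹ * f a * z = x := by rw [ha]; group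
    have ha4 : a ^ 4 = 1 := by
      apply hf
      rw [map_pow, ha, conj_pow, hX4 x hx, map_one]
      group
    refine ⟨a, hAH ⟨?_, ha4⟩, ?_⟩
    · show z⁻¹ * f a * z ∈ T
      rw [h1]; exact hXT x hx
    · rw [hFa, h1]
  obtain ⟨N', hN'K, hN'n, hN'T, hN'odd, hN'C⟩ := hOne K hKfin hK3 hKp hXK
  intro hbot
  have hbotK : pCore 2 K = ⊥ := by
    rw [← Cfsg.Agent.Lib.Cores.map_equiv_pCore eK 2, ← Cfsg.Agent.Lib.Cores.map_equiv_pCore eH 2, hbot,
      Subgroup.map_bot, Subgroup.map_bot]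
  have h1 := hN'C x0 (hXK hx0) (fun n hn => hTab _ (hXT _ hx0) _ (hN'T hn)) (by
    intro y hy
    rw [hbotK, Subgroup.map_bot, Subgroup.mem_bot] at hy
    rw [hy, mul_one, one_mul])
  rw [hbotK, Subgroup.map_bot, bot_sup_eq] at h1
  -- `x0` has odd order
  have h5 : orderOf x0 ∣ Nat.card N' := by
    rw [← Subgroup.orderOf_mk _ h1]
    exact orderOf_dvd_natCard _
  have h6 : orderOf x0 ∣ 4 := orderOf_dvd_of_pow_eq_one (hX4 _ hx0)
  have h7 : Nat.Coprime (Nat.card N') 4 := by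
    rw [show (4 : ℕ) = 2 ^ 2 by norm_num]
    exact Nat.Coprime.pow_right _ (Nat.coprime_two_right.mpr hN'odd)
  have h8 : orderOf x0 ∣ 1 := by
    rw [← h7]
    exact Nat.dvd_gcd h5 h6
  exact hx1 (orderOf_eq_one_iff.mp (Nat.dvd_one.mp h8))

variable {D : ChevalleyDatum} {l : ℕ} {M : CoxeterMatrix (Fin l)}

theorem xd_ne_one (hp : IsType D l M) {k : Type u} [Field k] (p : ℕ) [Fact p.Prime] [CharP k p] (hk : LocFin k)
    (h2 : (2 : k) ≠ 0) (h0 : 0 < D.nroots) (h1 : 1 < D.nroots)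
    (he : Cfsg.Agent.ChevalleyStructure.HMatDiagAll.expo D 0 1 = 1) {i : k} (hi : i * i = -1) :
    xd hp i 0 ≠ 1 := by
  intro h
  rw [xd_lt hp h0] at h
  have h4 := ch_ph_hS hp h0 p hk (i_ne_zero hi) h1
  rw [h, ch_one hp p hk h1, he, zpow_one] at h4
  rw [← h4, mul_one] at hi
  apply h2
  linear_combination hi

/-- the conclusion: `O₂(H) ≠ 1` for all subgroups `H` of odd index and order prime to `3 p` -/
def TwoCore (p : ℕ) (S : Type v) [Group S] : Prop :=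
  ∀ H : Subgroup S, ¬ 2 ∣ H.index → ¬ 3 ∣ Nat.card H → ¬ p ∣ Nat.card H → pCore 2 H ≠ ⊥

theorem twoCore_split (hp : IsType D l M) {F : Type} [Field F] [Fintype F] {p : ℕ} (hpp : p.Prime) (hp2 : p ≠ 2)
    [hFp : CharP F p] {S : Type v} [Group S] [Finite S] (hS : Nonempty (S ≃* D.group F))
    (h0 : 0 < D.nroots) (h01 : 1 < D.nroots) (hexpo : Cfsg.Agent.ChevalleyStructure.HMatDiagAll.expo D 0 1 = 1)
    {L0 FF : List ℕ} (h0L : 0 ∈ L0) (hL0 : ∀ s ∈ L0, s < D.nroots)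
    (hFF : ∀ s ∈ FF, s < D.nroots) (hrho : ∀ i : Fin l, rhoL D l FF (sr i) = -sr i)
    (hdata : ∀ [Fact p.Prime] [CharP (AlgebraicClosure F) p] (hk : LocFin (AlgebraicClosure F)) (e : ℕ) (_ : 0 < e)
      (_ : Fintype.card F = p ^ e) (_ : (2 : AlgebraicClosure F) ≠ 0) (i : AlgebraicClosure F) (_ : i * i = -1),
      H1 hp p e (algebraMap F (AlgebraicClosure F)) i L0 ∧
      OneP p {x : ↥(D.group (AlgebraicClosure F)) | ∃ d ∈ L0, x = xd hp i d} (TT D (AlgebraicClosure F))) :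
    TwoCore p S := by
  intro H hHi hH3 hHp
  have := Fact.mk hpp
  obtain ⟨p', e, hp', hpF', hpk', he, hq, hk⟩ := exists_closure (F := F) rfl
  have hpe : p' = p := CharP.eq F hpF' hFp
  subst hpe
  set k := AlgebraicClosure F with hkdef
  have h2 : (2 : k) ≠ 0 := by
    intro h
    have h1 : p' ∣ 2 := (CharP.cast_eq_zero_iff k p' 2).1 (by exact_mod_cast h)
    exact hp2 ((Nat.prime_dvd_prime_iff_eq hpp Nat.prime_two).1 h1)
  obtain ⟨i, hi⟩ := exists_i k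
  obtain ⟨hH1, hOne⟩ := hdata hk e he hq h2 i hi
  have hodd : Odd (p' ^ e) := (hpp.eq_two_or_odd'.resolve_left hp2).pow
  obtain ⟨ε, hε, h4⟩ := exists_eps hodd
  -- the list of reflections
  obtain ⟨L, hL, hLr⟩ : ∃ L : List ℕ, (∀ s ∈ L, s < D.nroots) ∧ ∀ x, rhoL D l L x = ε • x := by
    rcases hε with rfl | rfl
    · exact ⟨[], fun s hs => absurd hs List.not_mem_nil, fun x => (one_smul ℤ x).symm⟩
    · refine ⟨FF, hFF, fun x => ?_⟩
      have h1 := addHom_ext (f := rhoM D l FF) (g := AddMonoidHom.mk' (fun x => (-1 : ℤ) • x) (fun x y => smul_add _ x y))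
        (fun i => by
          rw [rhoM_apply, hrho]
          show -sr i = (-1 : ℤ) • sr i
          rw [neg_smul, one_smul]) x
      exact h1
  obtain ⟨z, hz, hiff⟩ := exists_twist_all hp hk he (isFrob_phi (D := D) (k := k) (p := p') (e := e))
    (fr_phi hp M.toCoxeterSystem) hL
  let f0 := algebraMap F k
  obtain ⟨φ⟩ := hS
  let f : S →* ↥(D.group k) := (emb hp.inList f0).comp φ.toMonoidHom
  have hf : Function.Injective f := (emb_injective hp.inList f0).comp φ.injective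
  refine two_core_ne (TTab hp) (X := {x : ↥(D.group k) | ∃ d ∈ L0, x = xd hp i d}) ?_ ?_ hOne f hf z ?_
    (x0 := xd hp i 0) ⟨0, h0L, rfl⟩ (xd_ne_one hp p' hk h2 h0 h01 hexpo hi) hHi hH3 hHp
  · rintro _ ⟨d, _, rfl⟩
    exact xd_mem hp (i_ne_zero hi) d
  · rintro _ ⟨d, _, rfl⟩
    exact xd_four hp hi d
  · rintro _ ⟨s, hs, rfl⟩
    have h1 := hH1 ε hε (by rw [← Nat.cast_pow]; exact h4) z (fun t ht => by
      rw [hz]; exact (cX_wL hp hk p' L hL t ht).1) (fun t ht x => by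
      rw [hz, (cX_wL hp hk p' L hL t ht).2, hLr]) s hs (hL0 s hs)
    obtain ⟨y, hy⟩ := h1
    refine ⟨φ.symm y, ?_⟩
    rw [xd_lt hp (hL0 s hs), ← hy]
    show emb hp.inList f0 (φ (φ.symm y)) = _
    rw [MulEquiv.apply_symm_apply]

section rows

variable {F : Type} [Field F] [Fintype F] {p : ℕ} {S : Type v} [Group S] [Finite S]

theorem expo_F4 : Cfsg.Agent.ChevalleyStructure.HMatDiagAll.expo chevF4 0 1 = 1 := by decide +kernel
theorem expo_E6 : Cfsg.Agent.ChevalleyStructure.HMatDiagAll.expo chevE6 0 1 = 1 := by decide +kernel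
theorem expo_E7 : Cfsg.Agent.ChevalleyStructure.HMatDiagAll.expo chevE7 0 1 = 1 := by decide +kernel
theorem expo_E8 : Cfsg.Agent.ChevalleyStructure.HMatDiagAll.expo chevE8 0 1 = 1 := by decide +kernel

theorem twoCore_f4 (hpp : p.Prime) (hp2 : p ≠ 2) [hFp : CharP F p] (hS : Nonempty (S ≃* chevF4.group F)) : TwoCore p S :=
  twoCore_split f4T' hpp hp2 hS (by decide) (by decide) expo_F4 (by decide) ltF4 ltFF4 rhoF4 (fun hk e he hq h2 i hi =>
      ⟨h1_odd f4T' hk _ he hq invC_F4 one_ne_zero (Or.inl rfl) (by norm_num) hi _,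
        one_F4 f4T' h2 p hk (hAlg_of_locFin hk p) hi⟩)

theorem twoCore_e8 (hpp : p.Prime) (hp2 : p ≠ 2) [hFp : CharP F p] (hS : Nonempty (S ≃* chevE8.group F)) : TwoCore p S :=
  twoCore_split e8T' hpp hp2 hS (by decide) (by decide) expo_E8 (by decide) ltE8 ltFE8 rhoE8 (fun hk e he hq h2 i hi =>
      ⟨h1_odd e8T' hk _ he hq invC_E8 one_ne_zero (Or.inl rfl) (by norm_num) hi _,
        one_E8 e8T' h2 p hk (hAlg_of_locFin hk p) hi⟩)

theorem twoCore_e7 (hpp : p.Prime) (hp2 : p ≠ 2) [hFp : CharP F p] (hS : Nonempty (S ≃* chevE7.group F)) : TwoCore p S :=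
  twoCore_split e7T' hpp hp2 hS (by decide) (by decide) expo_E7 (by decide) ltE7 ltFE7 rhoE7 (fun hk e he hq h2 i hi =>
      ⟨fun ε hε h4 z hzT hzX s hs hlt => by
          obtain ⟨j, hj⟩ := unimod_E7 s hs
          refine H14.CommRange.comm_mem_range e7T' _ hk he hq invC_E7 two_ne_zero h2 hi hε h4 hzT hzX hlt
            (fun j' => if j' = j then vec chevE7 7 s j else 0) ?_
          rw [Finset.sum_eq_single j]
          · rw [if_pos rfl]
            rcases hj with h | h <;> rw [h] <;> norm_num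
          · intro b _ hb
            rw [if_neg hb, zero_mul]
          · intro h
            exact absurd (Finset.mem_univ j) h,
        one_E7 e7T' h2 p hk (hAlg_of_locFin hk p) hi⟩)

/-- types `E₆`, `²E₆` -/
theorem twoCore_six {k : Type u} [Field k] [IsAlgClosed k] (hk : LocFin k) {p e : ℕ} [hpp : Fact p.Prime] [CharP k p]
    {G : Type w} [Group G] {ι : G →* ↥(chevE6.group k)} {σ : MulAut ↥(chevE6.group k)}
    {g : (Fin 6 → ℤ) ≃+ (Fin 6 → ℤ)} (hg : SixG g)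
    (set2 : ∀ [Fact (Nat.Prime 2)], Setup hp6 2 p e ι σ g)
    (hp2 : p ≠ 2) (hS : Nonempty (S ≃* G)) : TwoCore p S := by
  intro H hHi hH3 hHp
  have := Fact.mk Nat.prime_two
  have set2 := set2
  have h2 : (2 : k) ≠ 0 := by
    intro h
    have h1 : p ∣ 2 := (CharP.cast_eq_zero_iff k p 2).1 (by exact_mod_cast h)
    exact hp2 ((Nat.prime_dvd_prime_iff_eq hpp.out Nat.prime_two).1 h1)
  obtain ⟨i, hi⟩ := exists_i k
  have hi0 := i_ne_zero hi
  have hodd : Odd (p ^ e) := (hpp.out.eq_two_or_odd'.resolve_left hp2).pow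
  obtain ⟨ε, hε, h4⟩ := exists_eps hodd
  have hL1 : ∀ s ∈ ME6, s < chevE6.nroots ∧ g (vec chevE6 6 s) = vec chevE6 6 s := fun s hs => ⟨ltME6 s hs, hg.fix s hs⟩
  obtain ⟨z, -, hiff, hz⟩ := exists_twist_Z hp6 hk set2.e_pos set2.frob set2.fr (LL_sub ε) hL1
  obtain ⟨φ⟩ := hS
  let f : S →* ↥(chevE6.group k) := ι.comp φ.toMonoidHom
  have hf : Function.Injective f := set2.inj.comp φ.injective
  have hfφ : ∀ y, f (φ.symm y) = ι y := fun y => by
    show ι (φ (φ.symm y)) = _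
    rw [MulEquiv.apply_symm_apply]
  refine two_core_ne (TTab hp6) (X := {x : ↥(chevE6.group k) | ∃ d ∈ LE6, x = xd hp6 i d}) ?_ ?_
    (one_E6 hp6 h2 p hk (hAlg_of_locFin hk p) hi) f hf z ?_
    (x0 := xd hp6 i 0) ⟨0, by decide, rfl⟩ (xd_ne_one hp6 p hk h2 (by decide) (by decide) expo_E6 hi) hHi hH3 hHp
  · rintro _ ⟨d, _, rfl⟩
    exact xd_mem hp6 hi0 d
  · rintro _ ⟨d, _, rfl⟩
    exact xd_four hp6 hi d
  · rintro _ ⟨s, hs, rfl⟩
    have hlt := ltE6 s hs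
    have h1 := fixed_ph hp6 hk hiff (eps_sq hε) hlt p (fun x => ll_a hg hε hs x) (n := 4) (by exact_mod_cast h4)
      hi0 (i_four hi)
    obtain ⟨y, hy⟩ := set2.p_mem _ h1 ⟨2, by
      rw [show (2 : ℕ) ^ 2 = 4 by norm_num, conj_pow, ← map_pow, hS_pow hi0, i_four hi, hS_one, map_one]; group⟩
    refine ⟨φ.symm y, ?_⟩
    rw [xd_lt hp6 hlt, hfφ, hy]

theorem twoCore_e6 (_hpp : p.Prime) (hp2 : p ≠ 2) [hFp : CharP F p] (hS : Nonempty (S ≃* chevE6.group F)) : TwoCore p S := by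
  obtain ⟨p', e, hp', hpF', hpk', he, hq, hk⟩ := exists_closure (F := F) rfl
  have hpe : p' = p := CharP.eq F hpF' hFp
  subst hpe
  exact twoCore_six hk (ι := emb hp6.inList (algebraMap F (AlgebraicClosure F))) sixG_refl
    (Cfsg.Agent.H795.Untw.setup_untw hp6 hk _ he hq invC_E6 (by norm_num) (Or.inr Nat.prime_three) (p := 2)
      (by norm_num)) hp2 hS

theorem twoCore_tw (_hpp : p.Prime) (hp2 : p ≠ 2) [hFp : CharP F p] {q : ℕ} (hq : IsPrimePow q)
    (hK : Fintype.card F = q ^ 2) (hS : Nonempty (S ≃* twistedE6 F q)) : TwoCore p S := by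
  obtain ⟨r, n, hr, hrF, hrk, hn0, hn, hk⟩ := Cfsg.Agent.H795.Tw.exists_closure_q (K := F) two_ne_zero hq hK
  have hpe : r = p := CharP.eq F hrF hFp
  subst hpe
  exact twoCore_six hk (ι := em6 q (algebraMap F (AlgebraicClosure F))) sixG_rho
    (Cfsg.Agent.H795.Tw.setup_six _ r hk hn0 hn hK (by norm_num)) hp2 hS

end rows

open Cfsg.Agent.H165.RV in
/-- **The `N`-row for `3 ∉ π`.** -/
theorem TwoCore.nrow {S : Type v} [Group S] [Finite S] {p : ℕ} (h : TwoCore p S) {π : Set ℕ} (h2π : 2 ∈ π)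
    (h3π : 3 ∉ π) (hp : p.Prime) (hpπ : p ∉ π) : NRow π S := by
  intro H hH
  have h1 := h H (hH.2 2 Nat.prime_two h2π) (fun h => h3π (hH.1 3 Nat.prime_three h)) (fun h => hpπ (hH.1 p hp h))
  refine NAt.of_isPGroup (N := (pCore 2 H).map H.subtype) ?_ (Subgroup.map_subtype_le _)
    ((Cfsg.Agent.Lib.Cores.pCore_isPGroup (G := H) 2).map _) ?_
  · intro h2
    exact h1 ((Subgroup.map_eq_bot_iff_of_injective _ H.subtype_injective).mp h2)
  · rintro x hx _ ⟨n, hn, rfl⟩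
    exact ⟨_, (Cfsg.Agent.Lib.Cores.pCore_normal (G := H) 2).conj_mem n hn ⟨x, hx⟩, rfl⟩

end Cfsg.Agent.H102.RV
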