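import Cfsg.Agent.H102.RV.Fin
import Cfsg.Agent.H102.RV.Three
import Cfsg.Agent.H102.RV.Rho

/-!
# The `N`-rows of `F₄`, `E₆`, `²E₆`, `E₇`, `E₈` from the data (helper102)
-/

set_option autoImplicit false

namespace Cfsg.Agent.H102.RV

open Cfsg Cfsg.Lie Cfsg.Agent.H165.RV

universe u

theorem five_le {p : ℕ} (hp : p.Prime) (hp2 : p ≠ 2) (hp3 : p ≠ 3) : 5 ≤ p := by
  have h1 := hp.two_le
  have h4 : p ≠ 4 := by rintro rfl; exact absurd hp (by decide)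
  omega

/-- the row from the theorem `O₂(H) ≠ 1` in the two cases -/
theorem nrow_of {p : ℕ} (hp : p.Prime) {S : Type u} [Group S] [Finite S] {π : Set ℕ} (h2π : 2 ∈ π) (hpπ : p ∉ π)
    (h3 : TwoCore p S)
    (h5 : 5 ≤ p → ∀ H : Subgroup S, ¬ 2 ∣ H.index → ¬ p ∣ Nat.card H → pCore 2 H ≠ ⊥) : NRow π S := by
  by_cases h3π : 3 ∈ π
  · intro H hH
    have h5p : 5 ≤ p := five_le hp (fun h => hpπ (h ▸ h2π)) (fun h => hpπ (h ▸ h3π))
    have h1 := h5 h5p H (hH.2 2 Nat.prime_two h2π) (fun h => hpπ (hH.1 p hp h))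
    refine NAt.of_isPGroup (N := (pCore 2 H).map H.subtype) ?_ (Subgroup.map_subtype_le _)
      ((Cfsg.Agent.Lib.Cores.pCore_isPGroup (G := H) 2).map _) ?_
    · intro h2
      exact h1 ((Subgroup.map_eq_bot_iff_of_injective _ H.subtype_injective).mp h2)
    · rintro x hx _ ⟨n, hn, rfl⟩
      exact ⟨_, (Cfsg.Agent.Lib.Cores.pCore_normal (G := H) 2).conj_mem n hn ⟨x, hx⟩, rfl⟩
  · exact h3.nrow h2π h3π hp hpπ

variable {F : Type} [Field F] [Fintype F] {p : ℕ} {S : Type u} [Group S] [Finite S] {π : Set ℕ}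

theorem nrow_f4_of (hp : p.Prime) [CharP F p] (hS : Nonempty (S ≃* chevF4.group F))
    (hX : 5 ≤ p → ExcData p S) (h2π : 2 ∈ π) (hpπ : p ∉ π) : NRow π S := by
  have := Fact.mk hp
  have hp2 : p ≠ 2 := fun h => hpπ (h ▸ h2π)
  refine nrow_of hp h2π hpπ (twoCore_f4 hp hp2 hS) fun h5 H h2 hpH => ?_
  obtain ⟨f, hf⟩ := exists_rho_of card_idx_F4 hS
  refine (hX h5).two_core_ne h5 (d := 52) (e := 15) (by norm_num) f hf ?_ h2 hpH
  obtain ⟨e⟩ := hS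
  rw [Nat.card_congr e.toEquiv]
  exact two_pow_F4 (odd_card hp2)

theorem nrow_e6_of (hp : p.Prime) [CharP F p] (hS : Nonempty (S ≃* chevE6.group F))
    (hX : 5 ≤ p → ExcData p S) (h2π : 2 ∈ π) (hpπ : p ∉ π) : NRow π S := by
  have := Fact.mk hp
  have hp2 : p ≠ 2 := fun h => hpπ (h ▸ h2π)
  refine nrow_of hp h2π hpπ (twoCore_e6 hp hp2 hS) fun h5 H h2 hpH => ?_
  obtain ⟨f, hf⟩ := exists_rho_of card_idx_E6 hS
  refine (hX h5).two_core_ne h5 (d := 78) (e := 17) (by norm_num) f hf ?_ h2 hpH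
  obtain ⟨e⟩ := hS
  rw [Nat.card_congr e.toEquiv]
  exact two_pow_E6 (odd_card hp2)

theorem nrow_e7_of (hp : p.Prime) [CharP F p] (hS : Nonempty (S ≃* chevE7.group F))
    (hX : 5 ≤ p → ExcData p S) (h2π : 2 ∈ π) (hpπ : p ∉ π) : NRow π S := by
  have := Fact.mk hp
  have hp2 : p ≠ 2 := fun h => hpπ (h ▸ h2π)
  refine nrow_of hp h2π hpπ (twoCore_e7 hp hp2 hS) fun h5 H h2 hpH => ?_
  obtain ⟨f, hf⟩ := exists_rho_of card_idx_E7 hS
  refine (hX h5).two_core_ne h5 (d := 133) (e := 23) (by norm_num) f hf ?_ h2 hpH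
  obtain ⟨e⟩ := hS
  rw [Nat.card_congr e.toEquiv]
  exact two_pow_E7 (odd_card hp2)

theorem nrow_e8_of (hp : p.Prime) [CharP F p] (hS : Nonempty (S ≃* chevE8.group F))
    (hX : 5 ≤ p → ExcData p S) (h2π : 2 ∈ π) (hpπ : p ∉ π) : NRow π S := by
  have := Fact.mk hp
  have hp2 : p ≠ 2 := fun h => hpπ (h ▸ h2π)
  refine nrow_of hp h2π hpπ (twoCore_e8 hp hp2 hS) fun h5 H h2 hpH => ?_
  obtain ⟨f, hf⟩ := exists_rho_of card_idx_E8 hS
  refine (hX h5).two_core_ne h5 (d := 248) (e := 30) (by norm_num) f hf ?_ h2 hpH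
  obtain ⟨e⟩ := hS
  rw [Nat.card_congr e.toEquiv]
  exact two_pow_E8 (odd_card hp2)

theorem nrow_tw_of (hp : p.Prime) [CharP F p] {q : ℕ} (hq : IsPrimePow q) (hK : Fintype.card F = q ^ 2)
    (hS : Nonempty (S ≃* twistedE6 F q))
    (hX : 5 ≤ p → ExcData p S) (h2π : 2 ∈ π) (hpπ : p ∉ π) : NRow π S := by
  have := Fact.mk hp
  have hp2 : p ≠ 2 := fun h => hpπ (h ▸ h2π)
  refine nrow_of hp h2π hpπ (twoCore_tw hp hp2 hq hK hS) fun h5 H h2 hpH => ?_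
  obtain ⟨f, hf⟩ := exists_rho_of card_idx_E6 hS
  refine (hX h5).two_core_ne h5 (d := 78) (e := 17) (by norm_num) f hf ?_ h2 hpH
  obtain ⟨e⟩ := hS
  rw [Nat.card_congr e.toEquiv]
  refine two_pow_tw hq ?_ hK
  have h1 : Odd (Fintype.card F) := odd_card hp2
  rw [hK, pow_two] at h1
  exact Nat.Odd.of_mul_left h1

end Cfsg.Agent.H102.RV
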